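import Mathlib
import Cfsg.Agent.Lib.ChevStr.TorusOrder

/-!
Integer matrices with irreducible cyclotomic characteristic polynomial, and the kernel of a monomial
map on tuples of units of a finite field.
-/

set_option autoImplicit false

namespace CfsgLib.CycTorus

open Polynomial Matrix CfsgLib.ChevStr

variable {l : ℕ}

/-- A matrix annihilated on some nonzero vector by an irreducible polynomial of full degree is
annihilated by it, and the powers of the matrix act cyclically on every nonzero vector. -/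
theorem aeval_eq_zero_of_irreducible {K : Type*} [Field K] (W : Matrix (Fin l) (Fin l) K) {p : K[X]}
    (hp : Irreducible p) (hdeg : p.natDegree = l) {v : Fin l → K} (hv : v ≠ 0)
    (h : (aeval W p).mulVec v = 0) :
    aeval W p = 0 ∧ Submodule.span K (Set.range fun i : Fin l => (W ^ (i : ℕ)).mulVec v) = ⊤ := by
  have hli : LinearIndependent K (fun i : Fin l => (W ^ (i : ℕ)).mulVec v) := by
    rw [Fintype.linearIndependent_iff]
    intro g hg i
    set s : K[X] := ∑ j : Fin l, C (g j) * X ^ (j : ℕ) with hs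
    have hsv : (aeval W s).mulVec v = 0 := by
      rw [hs, map_sum, Matrix.sum_mulVec, ← hg]
      refine Finset.sum_congr rfl fun j _ => ?_
      rw [map_mul, aeval_C, map_pow, aeval_X, Algebra.algebraMap_eq_smul_one, smul_mul_assoc, one_mul,
        Matrix.smul_mulVec]
    have hdvd : p ∣ s := by
      by_contra hnd
      obtain ⟨a, b, hab⟩ := (hp.coprime_iff_not_dvd.2 hnd)
      apply hv
      have := congrArg (fun f => (aeval W f).mulVec v) hab
      simpa [← Matrix.mulVec_mulVec, Matrix.add_mulVec, h, hsv] using this.symm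
    have hcoef : s.coeff i = g i := by
      simp [hs, finset_sum_coeff, coeff_C_mul, coeff_X_pow, Fin.val_inj]
    rw [← hcoef]
    by_contra hne
    have hs0 : s ≠ 0 := fun e => hne (by simp [e])
    have h1 := Polynomial.natDegree_le_of_dvd hdvd hs0
    have h2 : s.natDegree < l := by
      have hl : 0 < l := i.pos
      rw [Polynomial.natDegree_lt_iff_degree_lt hs0, hs]
      exact (degree_sum_fin_lt _)
    omega
  have htop : Submodule.span K (Set.range fun i : Fin l => (W ^ (i : ℕ)).mulVec v) = ⊤ :=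
    hli.span_eq_top_of_card_eq_finrank' (by simp)
  refine ⟨?_, htop⟩
  refine Matrix.toLin'.injective (LinearMap.ext_on_range htop fun i => ?_)
  have hc : aeval W p * W ^ (i : ℕ) = W ^ (i : ℕ) * aeval W p := by
    simpa using congrArg (aeval W) (mul_comm p (X ^ (i : ℕ)))
  rw [Matrix.toLin'_apply, map_zero, LinearMap.zero_apply, Matrix.mulVec_mulVec, hc,
    ← Matrix.mulVec_mulVec, h, Matrix.mulVec_zero]

theorem map_aeval (W : Matrix (Fin l) (Fin l) ℤ) (p : ℤ[X]) :
    (aeval W p).map (Int.castRingHom ℚ) =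
      aeval (W.map (Int.castRingHom ℚ)) (p.map (Int.castRingHom ℚ)) := by
  let f : Matrix (Fin l) (Fin l) ℤ →+* Matrix (Fin l) (Fin l) ℚ := (Int.castRingHom ℚ).mapMatrix
  show f (aeval W p) = aeval (f W) (p.map (Int.castRingHom ℚ))
  induction p using Polynomial.induction_on' with
  | add a b ha hb => simp only [map_add, Polynomial.map_add, ha, hb]
  | monomial n a =>
    rw [aeval_monomial, map_mul, map_pow, Polynomial.map_monomial, aeval_monomial]
    congr 1
    rw [eq_intCast, map_intCast, eq_intCast (Int.castRingHom ℚ), map_intCast]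

theorem map_mat_eq_zero_iff {A : Matrix (Fin l) (Fin l) ℤ} :
    A.map (Int.castRingHom ℚ) = 0 ↔ A = 0 := by
  constructor
  · intro h
    ext i j
    have := congrFun (congrFun h i) j
    simpa using this
  · rintro rfl
    simp

/-- A character on integer vectors of exponent `r`, multiplied by `a` under `W`. -/
structure Eigen {G : Type*} [CommGroup G] (r : ℕ) (W : Matrix (Fin l) (Fin l) ℤ) (a : ℤ)
    (χ : (Fin l → ℤ) → G) : Prop where
  add : ∀ v w, χ (v + w) = χ v * χ w
  pow : ∀ v, χ v ^ r = 1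
  eig : ∀ v, χ (W.mulVec v) = χ v ^ a
  ne : ∃ v, χ v ≠ 1

namespace Eigen

variable {G : Type*} [CommGroup G] {r : ℕ} {W : Matrix (Fin l) (Fin l) ℤ} {a : ℤ}
  {χ : (Fin l → ℤ) → G} (E : Eigen r W a χ)

include E

theorem zero : χ 0 = 1 := by
  have := E.add 0 0
  rw [add_zero] at this
  exact mul_eq_left.1 this.symm

theorem zsmul (n : ℤ) (v : Fin l → ℤ) : χ (n • v) = χ v ^ n := by
  have h : ∀ (n : ℕ), χ (n • v) = χ v ^ n := fun n => by
    induction n with
    | zero => simp [E.zero]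
    | succ k ih => rw [succ_nsmul, E.add, ih, pow_succ]
  have hneg : ∀ w, χ (-w) = (χ w)⁻¹ := fun w =>
    (inv_eq_of_mul_eq_one_right (by rw [← E.add, add_neg_cancel, E.zero])).symm
  cases n with
  | ofNat k => simpa using h k
  | negSucc k => rw [negSucc_zsmul, hneg, h, zpow_negSucc]

theorem eig_pow (n : ℕ) (v : Fin l → ℤ) : χ ((W ^ n).mulVec v) = χ v ^ (a ^ n) := by
  induction n generalizing v with
  | zero => simp
  | succ k ih => rw [pow_succ, ← Matrix.mulVec_mulVec, ih, E.eig, ← _root_.zpow_mul, pow_succ, mul_comm]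

theorem eig_poly (p : ℤ[X]) (v : Fin l → ℤ) : χ ((aeval W p).mulVec v) = χ v ^ (p.eval a) := by
  induction p using Polynomial.induction_on' with
  | add b c hb hc => rw [map_add, Matrix.add_mulVec, E.add, hb, hc, eval_add, _root_.zpow_add]
  | monomial n c =>
    rw [aeval_monomial, Algebra.algebraMap_eq_smul_one, smul_mul_assoc, one_mul, Matrix.smul_mulVec,
      E.zsmul, E.eig_pow, eval_monomial, ← _root_.zpow_mul, mul_comm]

theorem zpow_ne_one (hr : r.Prime) {n : ℤ} (hn : ¬ (r : ℤ) ∣ n) {x : G} (hx : x ≠ 1)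
    (hxr : x ^ r = 1) : x ^ n ≠ 1 := by
  intro h
  have ho : orderOf x = r := by
    have := Fact.mk hr
    exact orderOf_eq_prime hxr hx
  rw [← orderOf_dvd_iff_zpow_eq_one, ho] at h
  exact hn h

/-- The characteristic property: `Φ_d(W) = 0`, and nonzero matrices commuting with `W` are injective. -/
theorem cyclotomic_zero (hr : r.Prime) (d : ℕ) (hd : 0 < d) (hl : d.totient = l)
    (ha : orderOf ((a : ℤ) : ZMod r) = d) {o : ℕ} (ho : 0 < o) (hor : ¬ r ∣ o) (hWo : W ^ o = 1) :
    aeval W (cyclotomic d ℤ) = 0 ∧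
      ∀ A : Matrix (Fin l) (Fin l) ℤ, A * W = W * A → A ≠ 0 → A.det ≠ 0 := by
  classical
  have := Fact.mk hr
  set Q : ℤ[X] := ∏ e ∈ o.divisors.erase d, cyclotomic e ℤ with hQ
  obtain ⟨v, hv⟩ := E.ne
  have hnd : ∀ e ∈ o.divisors, e ≠ d → ¬ (r : ℤ) ∣ (cyclotomic e ℤ).eval a := by
    intro e he hne h
    have hne0 : NeZero ((e : ℕ) : ZMod r) := ⟨by
      rw [Ne, ZMod.natCast_eq_zero_iff]
      exact fun h' => hor (h'.trans (Nat.dvd_of_mem_divisors he))⟩
    have h0 : (cyclotomic e (ZMod r)).IsRoot ((a : ℤ) : ZMod r) := by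
      rw [Polynomial.IsRoot.def, ← map_cyclotomic e (Int.castRingHom (ZMod r)),
        Polynomial.eval_intCast_map, eq_intCast, ZMod.intCast_zmod_eq_zero_iff_dvd]
      exact h
    rw [isRoot_cyclotomic_iff] at h0
    exact hne (h0.eq_orderOf.trans ha)
  have hQv : χ ((aeval W Q).mulVec v) ≠ 1 := by
    rw [E.eig_poly]
    refine E.zpow_ne_one hr ?_ hv (E.pow v)
    rw [hQ, eval_prod, (Nat.prime_iff_prime_int.1 hr).dvd_finset_prod_iff]
    rintro ⟨e, he, h⟩
    exact hnd e (Finset.mem_of_mem_erase he) (Finset.ne_of_mem_erase he) h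
  have hprod : ∏ e ∈ o.divisors, cyclotomic e ℤ = X ^ o - 1 := prod_cyclotomic_eq_X_pow_sub_one ho ℤ
  have hd' : d ∈ o.divisors := by
    by_contra hcon
    apply hQv
    rw [hQ, Finset.erase_eq_of_notMem hcon, hprod, map_sub, map_pow, aeval_X, map_one, hWo, sub_self,
      Matrix.zero_mulVec, E.zero]
  have hmul : aeval W (cyclotomic d ℤ) * aeval W Q = 0 := by
    rw [← map_mul, hQ, Finset.mul_prod_erase _ (fun e => cyclotomic e ℤ) hd', hprod, map_sub, map_pow,
      aeval_X, map_one, hWo, sub_self]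
  set WQ := W.map (Int.castRingHom ℚ) with hWQ
  have hpirr : Irreducible (cyclotomic d ℚ) := cyclotomic.irreducible_rat hd
  have hpdeg : (cyclotomic d ℚ).natDegree = l := by rw [natDegree_cyclotomic, hl]
  set u : Fin l → ℚ := fun i => (((aeval W Q).mulVec v i : ℤ) : ℚ) with hu
  have hu0 : u ≠ 0 := by
    intro h0
    apply hQv
    have : (aeval W Q).mulVec v = 0 := funext fun i => by
      have := congrFun h0 i
      simpa [hu] using this
    rw [this, E.zero]
  have hcast : ∀ (B : Matrix (Fin l) (Fin l) ℤ) (w : Fin l → ℤ),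
      (B.map (Int.castRingHom ℚ)).mulVec (fun i => ((w i : ℤ) : ℚ)) = fun i => ((B.mulVec w i : ℤ) : ℚ) := by
    intro B w; funext i; simp [Matrix.mulVec, dotProduct]
  have hpu : (aeval WQ (cyclotomic d ℚ)).mulVec u = 0 := by
    rw [← map_cyclotomic d (Int.castRingHom ℚ), hWQ, ← map_aeval, hu, hcast, Matrix.mulVec_mulVec, hmul]
    funext i; simp
  obtain ⟨hz, -⟩ := aeval_eq_zero_of_irreducible WQ hpirr hpdeg hu0 hpu
  refine ⟨?_, ?_⟩
  · rw [← map_mat_eq_zero_iff, map_aeval, map_cyclotomic, ← hWQ, hz]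
  · intro A hAW hA hdet
    have hA' : A.map (Int.castRingHom ℚ) ≠ 0 := fun h => hA (map_mat_eq_zero_iff.1 h)
    have hdet' : (A.map (Int.castRingHom ℚ)).det = 0 := by
      rw [← RingHom.mapMatrix_apply, ← RingHom.map_det, hdet, map_zero]
    obtain ⟨w, hw0, hAw⟩ := Matrix.exists_mulVec_eq_zero_iff.2 hdet'
    obtain ⟨-, htop⟩ := aeval_eq_zero_of_irreducible WQ hpirr hpdeg hw0 (by rw [hz, Matrix.zero_mulVec])
    apply hA'
    refine Matrix.toLin'.injective (LinearMap.ext_on_range htop fun i => ?_)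
    have hc : Commute (A.map (Int.castRingHom ℚ)) WQ :=
      (show Commute A W from hAW).map (Int.castRingHom ℚ).mapMatrix
    rw [Matrix.toLin'_apply, map_zero, LinearMap.zero_apply, Matrix.mulVec_mulVec,
      (hc.pow_right _).eq, ← Matrix.mulVec_mulVec, hAw, Matrix.mulVec_zero]

end Eigen

/-- The characteristic polynomial of a matrix killed by `Φ_d`, of size `φ(d)`. -/
theorem det_sub_eq (W : Matrix (Fin l) (Fin l) ℤ) {d : ℕ} (hd : 0 < d) (hl : d.totient = l)
    (h : aeval W (cyclotomic d ℤ) = 0) (a : ℤ) :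
    (Matrix.scalar (Fin l) a - W).det = (cyclotomic d ℤ).eval a := by
  have hpirr : Irreducible (cyclotomic d ℚ) := cyclotomic.irreducible_rat hd
  have hl0 : 0 < l := hl ▸ Nat.totient_pos.2 hd
  have : Nonempty (Fin l) := ⟨⟨0, hl0⟩⟩
  set WQ := W.map (Int.castRingHom ℚ)
  have hz : aeval WQ (cyclotomic d ℚ) = 0 := by
    rw [← map_cyclotomic d (Int.castRingHom ℚ), ← map_aeval, h]; simp
  have hmin : cyclotomic d ℚ = minpoly ℚ WQ :=
    minpoly.eq_of_irreducible_of_monic hpirr hz (cyclotomic.monic d ℚ)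
  have hchar : WQ.charpoly = cyclotomic d ℚ := by
    refine (Polynomial.eq_of_monic_of_dvd_of_natDegree_le (cyclotomic.monic d ℚ)
      (Matrix.charpoly_monic WQ) (hmin ▸ Matrix.minpoly_dvd_charpoly WQ) ?_)
    rw [Matrix.charpoly_natDegree_eq_dim, natDegree_cyclotomic, hl, Fintype.card_fin]
  have hcharZ : W.charpoly = cyclotomic d ℤ := by
    refine Polynomial.map_injective (Int.castRingHom ℚ) (Int.cast_injective) ?_
    rw [← Matrix.charpoly_map, hchar, map_cyclotomic]
  rw [← Matrix.eval_charpoly, hcharZ]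

/-- Congruent matrices with adjugate divisible by `ℓ` have congruent determinants modulo `ℓ ^ 2`. -/
theorem det_congr {ℓ : ℕ} (M : Matrix (Fin l) (Fin l) ℤ)
    (hadj : ∀ i j, (ℓ : ℤ) ∣ M.adjugate i j) (B : Matrix (Fin l) (Fin l) ℤ) :
    ((ℓ : ℤ) ^ 2) ∣ (M + (ℓ : ℤ) • B).det - M.det := by
  classical
  have hadj' : ∀ B : Matrix (Fin l) (Fin l) ℤ, ∀ i j, (ℓ : ℤ) ∣ (M + (ℓ : ℤ) • B).adjugate i j := by
    intro B i j
    have key : ∀ N : Matrix (Fin l) (Fin l) ℤ, ((N.adjugate i j : ℤ) : ZMod ℓ) =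
        (N.map (Int.castRingHom (ZMod ℓ))).adjugate i j := fun N => by
      have := congrFun (congrFun ((Int.castRingHom (ZMod ℓ)).map_adjugate N) i) j
      simpa using this
    rw [← ZMod.intCast_zmod_eq_zero_iff_dvd, key]
    rw [show (M + (ℓ : ℤ) • B).map (Int.castRingHom (ZMod ℓ)) = M.map (Int.castRingHom (ZMod ℓ)) by
      ext a b
      simp only [Matrix.map_apply, Matrix.add_apply, Matrix.smul_apply, smul_eq_mul, map_add, map_mul]
      simp]
    rw [← key, ZMod.intCast_zmod_eq_zero_iff_dvd]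
    exact hadj i j
  have step : ∀ (A : Matrix (Fin l) (Fin l) ℤ) (i j : Fin l) (x : ℤ),
      (A + Matrix.single i j x).det = A.det + x * A.adjugate j i := by
    intro A i j x
    have e : A + Matrix.single i j x = A.updateRow i (A i + x • Pi.single j 1) := by
      ext a b
      by_cases ha : a = i
      · subst ha
        by_cases hb : b = j
        · subst hb; simp [Matrix.updateRow_self]
        · simp [Matrix.updateRow_self, hb, Ne.symm hb]
      · simp [Matrix.updateRow_ne ha, Ne.symm ha]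
    rw [e, Matrix.det_updateRow_add, Matrix.det_updateRow_smul, Matrix.updateRow_eq_self,
      Matrix.adjugate_apply]
  have main : ∀ S : Finset (Fin l × Fin l), ((ℓ : ℤ) ^ 2) ∣
      (M + (ℓ : ℤ) • ∑ p ∈ S, Matrix.single p.1 p.2 (B p.1 p.2)).det - M.det := by
    intro S
    induction S using Finset.induction_on with
    | empty => simp
    | insert p S hp ih =>
      set A := M + (ℓ : ℤ) • ∑ p ∈ S, Matrix.single p.1 p.2 (B p.1 p.2) with hA
      have e : M + (ℓ : ℤ) • ∑ p ∈ insert p S, Matrix.single p.1 p.2 (B p.1 p.2) =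
          A + Matrix.single p.1 p.2 ((ℓ : ℤ) * B p.1 p.2) := by
        rw [hA, Finset.sum_insert hp, smul_add, Matrix.smul_single, smul_eq_mul]; abel
      rw [e, step, add_sub_right_comm]
      refine dvd_add ih ?_
      rw [pow_two, mul_assoc]
      exact mul_dvd_mul_left _ (Dvd.dvd.mul_left (hadj' _ p.2 p.1) _)
  have h := main Finset.univ
  have hB : B = ∑ p : Fin l × Fin l, Matrix.single p.1 p.2 (B p.1 p.2) := by
    rw [Fintype.sum_prod_type]; exact Matrix.matrix_eq_sum_single B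
  rwa [← hB] at h

/-- Some entry of the adjugate of `a - W` is prime to `ℓ`. -/
theorem exists_adjugate (W : Matrix (Fin l) (Fin l) ℤ) {d : ℕ} (hd : 0 < d) (hl : d.totient = l)
    (h : aeval W (cyclotomic d ℤ) = 0)
    (hsmall : ∀ ℓ ∈ d.primeFactors, ∀ b : ZMod (ℓ ^ 2),
      (cyclotomic d (ZMod (ℓ ^ 2))).eval b ≠ 0)
    (a : ℤ) {ℓ : ℕ} (hℓ : ℓ.Prime) (hdiv : (ℓ : ℤ) ∣ (cyclotomic d ℤ).eval a) :
    ∃ i j, ¬ (ℓ : ℤ) ∣ (Matrix.scalar (Fin l) a - W).adjugate i j := by
  by_contra hcon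
  push Not at hcon
  set M := Matrix.scalar (Fin l) a - W with hM
  -- the determinant of `M` is divisible by `ℓ ^ 2`, and so is every congruent one
  have hsq : ∀ B : ℤ, ((ℓ : ℤ) ^ 2) ∣ (cyclotomic d ℤ).eval (a + ℓ * B) - (cyclotomic d ℤ).eval a := by
    intro B
    have := det_congr M hcon (Matrix.scalar (Fin l) B)
    rwa [hM, det_sub_eq W hd hl h, show Matrix.scalar (Fin l) a - W + (ℓ : ℤ) • Matrix.scalar (Fin l) B =
      Matrix.scalar (Fin l) (a + ℓ * B) - W by
        rw [map_add]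
        simp only [Matrix.scalar_apply, ← Matrix.diagonal_smul]
        simp only [Pi.smul_def, smul_eq_mul]; abel,
      det_sub_eq W hd hl h] at this
  have ha2 : ((ℓ : ℤ) ^ 2) ∣ (cyclotomic d ℤ).eval a := by
    rw [← det_sub_eq W hd hl h a, ← hM]
    have hdvd := hdiv
    rw [← det_sub_eq W hd hl h a, ← hM] at hdvd
    -- `M * adjugate M = det M`, so `ℓ ^ l ∣ (det M) ^ (l - 1)`
    have hl0 : 0 < l := hl ▸ Nat.totient_pos.2 hd
    by_cases h1 : l = 1
    · exfalso
      subst h1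
      have := hcon 0 0
      rw [Matrix.adjugate_subsingleton] at this
      exact hℓ.not_dvd_one (by exact_mod_cast (by simpa using this : (ℓ : ℤ) ∣ 1))
    · have hm : ∀ i j, ∃ c, M.adjugate i j = (ℓ : ℤ) * c := fun i j => hcon i j
      choose c hc using hm
      have hadj : M.adjugate = (ℓ : ℤ) • Matrix.of c := by ext i j; simp [hc]
      have hdet := Matrix.det_adjugate M
      rw [hadj, Matrix.det_smul, Fintype.card_fin] at hdet
      have hp : ((ℓ : ℤ)) ^ l ∣ M.det ^ (l - 1) := ⟨_, hdet.symm⟩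
      obtain ⟨e, he⟩ := hdvd
      by_contra hne
      have hne' : ¬ (ℓ : ℤ) ∣ e := fun h' => hne (by rw [he, pow_two]; exact mul_dvd_mul_left _ h')
      rw [he, mul_pow, show l = (l - 1) + 1 by omega, pow_succ, Nat.add_sub_cancel] at hp
      have hp' : (ℓ : ℤ) ∣ e ^ (l - 1) :=
        Int.dvd_of_mul_dvd_mul_left (pow_ne_zero _ (by exact_mod_cast hℓ.ne_zero)) hp
      exact hne' ((Nat.prime_iff_prime_int.1 hℓ).dvd_of_dvd_pow hp')
  by_cases hℓd : ℓ ∣ d
  · refine hsmall ℓ (Nat.mem_primeFactors.2 ⟨hℓ, hℓd, hd.ne'⟩) (a : ZMod (ℓ ^ 2)) ?_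
    rw [← map_cyclotomic d (Int.castRingHom (ZMod (ℓ ^ 2))), Polynomial.eval_intCast_map, eq_intCast,
      ZMod.intCast_zmod_eq_zero_iff_dvd]
    exact_mod_cast ha2
  · -- `a` and `a + ℓ` are both roots of `X ^ d - 1` modulo `ℓ ^ 2`
    have hdiv' : ∀ b : ℤ, ((ℓ : ℤ) ^ 2) ∣ (cyclotomic d ℤ).eval b → ((ℓ : ℤ) ^ 2) ∣ b ^ d - 1 := by
      intro b hb
      refine hb.trans ?_
      have := Polynomial.eval_dvd (x := b) (cyclotomic.dvd_X_pow_sub_one d ℤ)
      simpa using this
    have h1 := hdiv' a ha2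
    have h2 := hdiv' (a + ℓ) (by
      have := dvd_add (hsq 1) ha2
      simpa using this)
    obtain ⟨k, hk⟩ : ((ℓ : ℤ) ^ 2) ∣ (a + ℓ) ^ d - a ^ d - d * a ^ (d - 1) * ℓ := by
      obtain ⟨d', rfl⟩ : ∃ d', d = d' + 1 := ⟨d - 1, by omega⟩
      clear * -
      induction d' with
      | zero => simp
      | succ n ih =>
        obtain ⟨k, hk⟩ := ih
        refine ⟨k * (a + ℓ) + (n + 1) * a ^ n, ?_⟩
        simp only [Nat.add_sub_cancel] at hk ⊢
        have e : (a + ℓ) ^ (n + 1) = (ℓ : ℤ) ^ 2 * k + a ^ (n + 1) + ((n + 1 : ℕ) : ℤ) * a ^ n * ℓ := by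
          linarith
        rw [pow_succ (a + ℓ), e]
        push_cast
        ring
    have h3 : ((ℓ : ℤ) ^ 2) ∣ d * a ^ (d - 1) * ℓ := by
      have := dvd_sub (dvd_sub h2 h1) ⟨k, hk⟩
      have e : (a + ℓ) ^ d - 1 - (a ^ d - 1) - ((a + ℓ) ^ d - a ^ d - d * a ^ (d - 1) * ℓ) =
          (d : ℤ) * a ^ (d - 1) * ℓ := by ring
      rwa [e] at this
    rw [pow_two] at h3
    have h4 : (ℓ : ℤ) ∣ d * a ^ (d - 1) :=
      Int.dvd_of_mul_dvd_mul_right (by exact_mod_cast hℓ.ne_zero) h3
    rcases (Nat.prime_iff_prime_int.1 hℓ).dvd_mul.1 h4 with h5 | h5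
    · exact hℓd (by exact_mod_cast h5)
    · have h6 : (ℓ : ℤ) ∣ a ^ d := by
        rw [show d = (d - 1) + 1 by omega, pow_succ]; exact h5.mul_right _
      have h7 : (ℓ : ℤ) ∣ a ^ d - 1 := (dvd_pow_self _ two_ne_zero).trans h1
      have := dvd_sub h6 h7
      rw [sub_sub_cancel] at this
      exact hℓ.not_dvd_one (by exact_mod_cast this)

/-- The monomial map as an endomorphism. -/
def monHom {G : Type*} [CommGroup G] (M : Matrix (Fin l) (Fin l) ℤ) : (Fin l → G) →* (Fin l → G) where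
  toFun := monMap M
  map_one' := monMap_map_one M
  map_mul' c c' := by funext i; simp [monMap, mul_zpow, Finset.prod_mul_distrib]

theorem monMap_mul {G : Type*} [CommGroup G] (M N : Matrix (Fin l) (Fin l) ℤ) (c : Fin l → G) :
    monMap M (monMap N c) = monMap (M * N) c :=
  monMap_monMap M N c

theorem monMap_diagonal {G : Type*} [CommGroup G] (n : ℤ) (c : Fin l → G) :
    monMap (n • (1 : Matrix (Fin l) (Fin l) ℤ)) c = fun i => c i ^ n := by
  funext i
  show ∏ j, c j ^ (n • (1 : Matrix (Fin l) (Fin l) ℤ)) i j = c i ^ n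
  rw [Fintype.prod_eq_single i]
  · simp
  · intro j hj; simp [Matrix.one_apply_ne (Ne.symm hj)]

/-- The kernel of a monomial map with determinant `N` is cyclic of order `N`. -/
theorem isCyclic_ker {K : Type*} [Field K] [Fintype K] (M : Matrix (Fin l) (Fin l) ℤ) {N : ℕ}
    (hN : 0 < N) (hdet : M.det = N) (hdvd : N ∣ Fintype.card K - 1)
    (hadj : ∀ ℓ : ℕ, ℓ.Prime → ℓ ∣ N → ∃ i j, ¬ (ℓ : ℤ) ∣ M.adjugate i j) :
    IsCyclic (monHom (G := Kˣ) M).ker ∧ Nat.card (monHom (G := Kˣ) M).ker = N := by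
  classical
  set A := (monHom (G := Kˣ) M).ker with hA
  have hmem : ∀ x : Fin l → Kˣ, x ∈ A ↔ monMap M x = 1 := fun x => Iff.rfl
  have hkill : ∀ x : A, x ^ N = 1 := by
    rintro ⟨x, hx⟩
    have := congrArg (monMap M.adjugate) ((hmem x).1 hx)
    rw [monMap_mul, Matrix.adjugate_mul, hdet, monMap_diagonal] at this
    refine Subtype.ext (funext fun i => ?_)
    have h2 := congrFun this i
    rw [show monMap M.adjugate (1 : Fin l → Kˣ) = 1 from map_one (monHom M.adjugate)] at h2
    simpa using h2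
  -- coordinates are faithful on elements of order `ℓ`
  have hfaith : ∀ ℓ : ℕ, ℓ.Prime → ∀ i j, ¬ (ℓ : ℤ) ∣ M.adjugate i j → (ℓ : ℤ) ∣ M.det →
      ∀ x ∈ A, x i = 1 → x ^ ℓ = 1 → x = 1 := by
    intro ℓ hℓ i j hij hℓdet x hx hxi hxℓ
    set M' := M.updateRow j (M j + Pi.single i 1) with hM'
    have hdet' : M'.det = M.det + M.adjugate i j := by
      rw [hM', Matrix.det_updateRow_add, Matrix.updateRow_eq_self, Matrix.adjugate_apply]
    have hM'x : monMap M' x = 1 := by
      funext k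
      have hk := congrFun ((hmem x).1 hx) k
      by_cases hkj : k = j
      · subst hkj
        change ∏ m, x m ^ M k m = 1 at hk
        show ∏ m, x m ^ M' k m = 1
        simp only [hM', Matrix.updateRow_self, Pi.add_apply, _root_.zpow_add, Finset.prod_mul_distrib, hk,
          one_mul]
        rw [Fintype.prod_eq_single i]
        · simp [hxi]
        · intro a ha; simp [ha]
      · change ∏ m, x m ^ M k m = 1 at hk
        show ∏ m, x m ^ M' k m = 1
        simp only [hM', Matrix.updateRow_ne hkj]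
        exact hk
    have hd := congrArg (monMap M'.adjugate) hM'x
    rw [monMap_mul, Matrix.adjugate_mul, monMap_diagonal] at hd
    funext k
    have h1 : x k ^ M'.det = 1 := by
      have h2 := congrFun hd k
      rw [show monMap M'.adjugate (1 : Fin l → Kˣ) = 1 from map_one (monHom M'.adjugate)] at h2
      exact h2
    have h2 : x k ^ (ℓ : ℤ) = 1 := by rw [zpow_natCast]; exact congrFun hxℓ k
    obtain ⟨a, b, hab⟩ : IsCoprime (ℓ : ℤ) M'.det :=
      (Prime.coprime_iff_not_dvd (Nat.prime_iff_prime_int.1 hℓ)).2 fun h => hij (by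
        have := dvd_sub h hℓdet
        rwa [hdet', add_sub_cancel_left] at this)
    have : x k = x k ^ (a * ℓ + b * M'.det) := by rw [hab, zpow_one]
    rw [this, _root_.zpow_add, mul_comm a, mul_comm b, _root_.zpow_mul, _root_.zpow_mul, h2, h1, _root_.one_zpow, _root_.one_zpow, one_mul]
    rfl
  -- the coordinate map on a Sylow subgroup
  have hsyl : ∀ (ℓ : ℕ) [Fact ℓ.Prime] (P : Sylow ℓ A), IsCyclic P ∧ Nat.card P ∣ N := by
    intro ℓ hℓ P
    have hp := P.isPGroup'
    by_cases htriv : (P : Subgroup A) = ⊥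
    · have : Subsingleton (P : Subgroup A) := by rw [htriv]; infer_instance
      exact ⟨isCyclic_of_subsingleton, by
        rw [Nat.card_of_subsingleton (1 : (P : Subgroup A))]; exact one_dvd _⟩
    have hℓN : ℓ ∣ N := by
      obtain ⟨y, hy⟩ := exists_prime_orderOf_dvd_card' ℓ
        (hp.card_eq_or_dvd.resolve_left fun h => htriv (Subgroup.eq_bot_of_card_eq _ h))
      rw [← hy, orderOf_dvd_iff_pow_eq_one]
      exact Subtype.ext (hkill y.1)
    obtain ⟨i, j, hij⟩ := hadj ℓ hℓ.out hℓN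
    let f : (P : Subgroup A) →* Kˣ :=
      (Pi.evalMonoidHom (fun _ => Kˣ) i).comp (A.subtype.comp (P : Subgroup A).subtype)
    have hf : Function.Injective f := by
      rw [← MonoidHom.ker_eq_bot_iff]
      by_contra hne
      obtain ⟨y, hy⟩ := exists_prime_orderOf_dvd_card' ℓ
        ((hp.to_subgroup f.ker).card_eq_or_dvd.resolve_left fun h => hne (Subgroup.eq_bot_of_card_eq _ h))
      have h0 : ((y.1.1 : A) : Fin l → Kˣ) = 1 := hfaith ℓ hℓ.out i j hij
        (by rw [hdet]; exact_mod_cast hℓN) _ y.1.1.2 (MonoidHom.mem_ker.1 y.2)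
        (by
          have := pow_orderOf_eq_one y
          rw [hy] at this
          exact congrArg (fun z : f.ker => ((z.1.1 : A) : Fin l → Kˣ)) this)
      have : y = 1 := Subtype.ext (Subtype.ext (Subtype.ext h0))
      rw [this, orderOf_one] at hy
      exact hℓ.out.ne_one hy.symm
    have hc : IsCyclic (P : Subgroup A) := isCyclic_of_injective f hf
    refine ⟨hc, ?_⟩
    obtain ⟨g, hg⟩ := hc.exists_generator
    rw [← orderOf_eq_card_of_forall_mem_zpowers hg, orderOf_dvd_iff_pow_eq_one]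
    exact Subtype.ext (hkill g.1)
  have hZ : IsZGroup A := ⟨fun ℓ hℓ P => by have := Fact.mk hℓ; exact (hsyl ℓ P).1⟩
  have hcyc : IsCyclic A := inferInstance
  refine ⟨hcyc, Nat.dvd_antisymm ?_ ?_⟩
  · obtain ⟨g, hg⟩ := hcyc.exists_generator
    rw [← orderOf_eq_card_of_forall_mem_zpowers hg]
    exact orderOf_dvd_iff_pow_eq_one.2 (hkill g)
  · rw [Nat.dvd_iff_prime_pow_dvd_dvd]
    intro ℓ k hℓ hk
    rcases Nat.eq_zero_or_pos k with rfl | hk0
    · simp
    have := Fact.mk hℓ
    obtain ⟨i, j, hij⟩ := hadj ℓ hℓ ((dvd_pow_self ℓ hk0.ne').trans hk)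
    obtain ⟨ω, hω⟩ : ∃ ω : Kˣ, orderOf ω = ℓ ^ k := by
      obtain ⟨g, hg⟩ := IsCyclic.exists_generator (α := Kˣ)
      have hg' : orderOf g = Fintype.card K - 1 := by
        rw [orderOf_eq_card_of_forall_mem_zpowers hg, Nat.card_units, Nat.card_eq_fintype_card]
      obtain ⟨c, hc⟩ := hk.trans hdvd
      have hpos : 0 < orderOf g := orderOf_pos g
      rw [hg', hc] at hpos
      refine ⟨g ^ c, ?_⟩
      have hc0 : c ≠ 0 := by rintro rfl; simp at hpos
      rw [orderOf_pow_of_dvd hc0 ⟨ℓ ^ k, by rw [hg', hc]; ring⟩, hg', hc,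
        Nat.mul_div_cancel _ (Nat.pos_of_ne_zero hc0)]
    let x : Fin l → Kˣ := monMap M.adjugate (Pi.mulSingle j ω)
    have hx : x ∈ A := by
      rw [hmem]
      simp only [x, monMap_mul, Matrix.mul_adjugate, hdet, monMap_diagonal]
      funext m
      have hωN : ω ^ N = 1 := orderOf_dvd_iff_pow_eq_one.1 (hω ▸ hk)
      by_cases hm : m = j
      · subst hm; simp [hωN]
      · simp [Pi.mulSingle_eq_of_ne hm]
    have hxi : x i = ω ^ M.adjugate i j := by
      simp only [x, monMap]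
      rw [Fintype.prod_eq_single j]
      · simp
      · intro b hb; simp [Pi.mulSingle_eq_of_ne hb]
    refine Dvd.dvd.trans ?_ (orderOf_dvd_natCard (⟨x, hx⟩ : A))
    rw [Subgroup.orderOf_mk]
    refine Dvd.dvd.trans ?_ (orderOf_map_dvd (Pi.evalMonoidHom (fun _ => Kˣ) i) x)
    rw [Pi.evalMonoidHom_apply, hxi]
    have hcop : IsCoprime (M.adjugate i j) ((ℓ : ℤ) ^ k) :=
      ((Prime.coprime_iff_not_dvd (Nat.prime_iff_prime_int.1 hℓ)).2 hij).symm.pow_right
    obtain ⟨a, b, hab⟩ := hcop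
    have hω1 : ω = (ω ^ M.adjugate i j) ^ a := by
      have : ω = ω ^ (a * M.adjugate i j + b * (ℓ : ℤ) ^ k) := by rw [hab, zpow_one]
      rw [_root_.zpow_add, mul_comm a, mul_comm b, _root_.zpow_mul, _root_.zpow_mul] at this
      have h1 : ω ^ ((ℓ : ℤ) ^ k) = 1 := by
        rw [← Nat.cast_pow, zpow_natCast, ← hω, pow_orderOf_eq_one]
      rwa [h1, _root_.one_zpow, mul_one] at this
    nth_rw 1 [← hω, hω1]
    exact orderOf_zpow_dvd_aux _ _
where
  orderOf_zpow_dvd_aux {G : Type _} [Group G] (g : G) (a : ℤ) : orderOf (g ^ a) ∣ orderOf g := by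
    rw [orderOf_dvd_iff_pow_eq_one, ← zpow_natCast (g ^ a), ← _root_.zpow_mul, mul_comm, _root_.zpow_mul,
      zpow_natCast, pow_orderOf_eq_one, _root_.one_zpow]

end CfsgLib.CycTorus
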