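import Cfsg.Agent.Lib.CycTorus.Group

/-!
Torus elements in character coordinates, and twisted fixed subgroups of tuples of units.
-/

set_option autoImplicit false

namespace CfsgLib.CycTorus

open Cfsg.Lie CfsgLib.ChevStr CfsgLib.ChevField Matrix
open scoped MatrixGroups

section Chi

variable {l : ℕ} {G : Type*} [CommGroup G]

/-- The character of integer vectors given by a tuple. -/
def chi (f : Fin l → G) (v : Fin l → ℤ) : G := ∏ j, f j ^ v j

theorem chi_single (f : Fin l → G) (j : Fin l) : chi f (Pi.single j 1) = f j := by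
  rw [chi, Fintype.prod_eq_single j]
  · simp
  · intro i hi; simp [hi]

theorem chi_ext {f g : Fin l → G} (h : ∀ v, chi f v = chi g v) : f = g :=
  funext fun j => by rw [← chi_single f j, h, chi_single]

theorem chi_mulVec (f : Fin l → G) (M : Matrix (Fin l) (Fin l) ℤ) (v : Fin l → ℤ) :
    chi f (M.mulVec v) = chi (monMap Mᵀ f) v := by
  have h : ∀ (s : Finset (Fin l)) (x : G) (e : Fin l → ℤ), ∏ a ∈ s, x ^ e a = x ^ ∑ a ∈ s, e a :=
    fun s x e => prod_zpow_eq s e x
  simp only [chi, monMap, ← Finset.prod_zpow]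
  rw [Finset.prod_comm]
  refine Finset.prod_congr rfl fun i _ => ?_
  rw [Matrix.mulVec, dotProduct, ← h]
  exact Finset.prod_congr rfl fun j _ => by rw [← _root_.zpow_mul, Matrix.transpose_apply]

theorem chi_pow (f : Fin l → G) (n : ℕ) (v : Fin l → ℤ) : chi (f ^ n) v = chi f v ^ n := by
  simp only [chi, Pi.pow_apply, ← Finset.prod_pow]
  refine Finset.prod_congr rfl fun j _ => ?_
  rw [← zpow_natCast (f j ^ v j), ← _root_.zpow_mul, ← zpow_natCast (f j), ← _root_.zpow_mul, mul_comm]

theorem monMap_pow (M : Matrix (Fin l) (Fin l) ℤ) (f : Fin l → G) (n : ℕ) :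
    monMap M (f ^ n) = monMap M f ^ n := map_pow (monHom M) f n

end Chi

section Torus

variable {D : ChevalleyDatum} {K : Type*} [Field K] (C : ChevCore D K)

/-- The characters of a torus parameter on the fundamental roots. -/
abbrev coords (c : Fin D.rank → Kˣ) : Fin D.rank → Kˣ := monMap (cartanMat D) c

theorem coords_pow (c : Fin D.rank → Kˣ) (n : ℕ) : coords (D := D) (c ^ n) = coords c ^ n :=
  monMap_pow _ c n

theorem torusChar_eq_chi (c : Fin D.rank → Kˣ) (v : Fin D.rank → ℤ) :
    C.R.torusChar c v = chi (coords c) v := torusChar_eq C c v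

theorem torus_eq_iff {a b : Fin D.rank → Kˣ} :
    C.R.torus a = C.R.torus b ↔ coords (D := D) a = coords b := by
  rw [← mul_inv_eq_one, ← map_inv, ← map_mul, C.torus_eq_one_iff]
  show coords (a * b⁻¹) = 1 ↔ _
  rw [show coords (a * b⁻¹) = coords a * (coords b)⁻¹ by
    exact (map_mul (monHom (cartanMat D)) a b⁻¹).trans (congrArg _ (map_inv (monHom (cartanMat D)) b)),
    mul_inv_eq_one]

/-- Unipotent elements centralising some torus elements centralise those killed by the same roots. -/
theorem commute_of_commute {ι : Type*} (a : ι → Fin D.rank → Kˣ) {u : GL D.Idx K}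
    (hu : u ∈ D.posUnipotent K) (h : ∀ x, C.R.torus (a x) * u = u * C.R.torus (a x))
    {b : Fin D.rank → Kˣ}
    (hb : ∀ s : Fin D.nroots, (∀ x, C.R.torusChar (a x) (C.R.α s) = 1) → C.R.torusChar b (C.R.α s) = 1) :
    C.R.torus b * u = u * C.R.torus b := by
  classical
  rw [C.posUnipotent_eq] at hu
  have hset := C.setOf_mem_rootList (S := {r | D.IsPosRoot r}) fun r hr => hr.1
  obtain ⟨t, rfl⟩ := C.exists_word (L := C.rootList {r | D.IsPosRoot r}) (ChevCore.sorted_filter _)
    (by rw [hset]; exact C.R.isClosed_pos) u (by rwa [hset])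
  have hconj : ∀ (c : Fin D.rank → Kˣ) (L : List ℕ), C.R.torus c * C.word L t * (C.R.torus c)⁻¹ =
      C.word L (fun r => if hr : r < D.nroots then (C.R.torusChar c (C.R.α r) : K) * t r else t r) := by
    intro c L
    induction L with
    | nil => simp [ChevCore.word_nil]
    | cons k L ih =>
      rw [ChevCore.word_cons, ChevCore.word_cons, ← ih]
      by_cases hk : k < D.nroots
      · rw [dif_pos hk, ← C.acts_torus c ⟨k, hk⟩ (t k)]
        group
      · rw [dif_neg hk, C.xGL_of_le (not_lt.1 hk)]
        group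
  rw [← mul_inv_eq_iff_eq_mul, hconj]
  rw [ChevCore.word, ChevCore.word, ChevCore.wordGL, ChevCore.wordGL]
  refine congrArg List.prod ?_
  simp only [List.map_map]
  refine List.map_congr_left fun r hr => ?_
  simp only [Function.comp]
  split_ifs with hlt
  · by_cases ht : t r = 0
    · simp [ht]
    · rw [hb ⟨r, hlt⟩ fun x => ?_, Units.val_one, one_mul]
      have hw := hconj (a x) (C.rootList {r | D.IsPosRoot r})
      rw [h, mul_inv_cancel_right] at hw
      have h1 := C.word_injective (ChevCore.sorted_filter _)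
        (fun r hr => (Set.ext_iff.1 hset r).1 hr) _ _ hw r hr
      rw [dif_pos hlt] at h1
      exact Units.ext ((mul_eq_right₀ ht).1 h1.symm)
  · rfl

end Torus

end CfsgLib.CycTorus
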