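import Cfsg.Agent.Lib.CycTorus.Group

/-!
Fixed points of a field automorphism on a Chevalley group with arbitrary Cartan matrix: elements of
order prime to the exponent of the obstruction are defined over the fixed field.
-/

set_option autoImplicit false

namespace CfsgLib.CycTorus

open Cfsg.Lie CfsgLib.ChevStr CfsgLib.ChevField Matrix
open scoped MatrixGroups

variable {D : ChevalleyDatum} {F K : Type*} [Field F] [Field K] (C : ChevCore D K) (σ : K ≃+* K)
  (ι : F →+* K)

include C in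
/-- A fixed element is a fixed torus element up to elements over the fixed field. -/
theorem decomp_fixed (hfix : ∀ x, σ x = x → ∃ a, ι a = x) {g : GL D.Idx K} (hg : g ∈ D.group K)
    (h : mapGL σ.toRingHom g = g) :
    ∃ h₁ ∈ (D.group F).map (mapGL ι), ∃ c : Fin D.rank → Kˣ, ∃ h₂ ∈ (D.group F).map (mapGL ι),
      mapGL σ.toRingHom (C.R.torus c) = C.R.torus c ∧ g = h₁ * C.R.torus c * h₂ := by
  obtain ⟨w, hw, b, hb, n, hn, hnw, u, hu, rfl⟩ := C.normalForm_exists hg
  obtain ⟨n0, hn0, hacts⟩ := C.exists_rep hw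
  have hn0m := C.rep_mem_monomial hn0
  have hd : n * n0⁻¹ ∈ D.diagonalSubgroup K :=
    C.mem_diagonal_of_moves_one (mul_mem hn (inv_mem hn0m))
      (by simpa using ChevCore.Moves.mul C hnw (ChevCore.Moves.inv C hn0m (ChevCore.Acts.moves C hacts)))
  have hb' : b * (n * n0⁻¹) ∈ D.borelSubgroup K :=
    mul_mem hb (le_sup_right (a := D.posUnipotent K) hd)
  rw [show b * n * u = b * (n * n0⁻¹) * n0 * u by group] at h ⊢
  have hn0σ : mapGL σ.toRingHom n0 = n0 := by
    have hle : Subgroup.closure (Set.range C.nS) ≤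
        MonoidHom.eqLocus (mapGL σ.toRingHom) (MonoidHom.id _) := by
      rw [Subgroup.closure_le]
      rintro _ ⟨i, rfl⟩
      exact mapGL_nS C σ i
    exact hle hn0
  rw [map_mul, map_mul, hn0σ] at h
  obtain ⟨hbf, huf⟩ := (C.normalForm_unique (mapGL_borel C σ hb') hb' hn0m hn0m
    (ChevCore.Acts.moves C hacts) (ChevCore.Acts.moves C hacts) (mapGL_Ucl C σ hu) hu h).2.2 rfl
  obtain ⟨v, hv, c, hvc⟩ := C.mem_borel.1 hb'
  rw [hvc] at hbf ⊢
  rw [map_mul] at hbf
  have hdiag : ∀ d, C.R.torus d ∈ D.diagonalSubgroup K := fun d => by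
    rw [C.diagonalSubgroup_eq]; exact ⟨d, rfl⟩
  have hσc : mapGL σ.toRingHom (C.R.torus c) ∈ D.diagonalSubgroup K := by
    rw [mapGL_torus]; exact hdiag _
  have hvv : v⁻¹ * mapGL σ.toRingHom v = 1 := by
    refine (Subgroup.eq_bot_iff_forall _).1 C.posUnipotent_inf_diagonal _
      (Subgroup.mem_inf.2 ⟨mul_mem (inv_mem hv) (mapGL_posUnipotent C σ hv), ?_⟩)
    have : v⁻¹ * mapGL σ.toRingHom v =
        C.R.torus c * (mapGL σ.toRingHom (C.R.torus c))⁻¹ := by
      rw [eq_mul_inv_iff_mul_eq, mul_assoc, hbf, inv_mul_cancel_left]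
    rw [this]
    exact mul_mem (hdiag _) (inv_mem hσc)
  have hvσ : mapGL σ.toRingHom v = v := (inv_mul_eq_one.1 hvv).symm
  rw [hvσ, mul_right_inj] at hbf
  refine ⟨v, Ucl_fixed C σ ι hfix C.R.isClosed_pos (by rwa [← C.posUnipotent_eq]) hvσ, c, n0 * u,
    mul_mem ?_ (Ucl_fixed C σ ι hfix (C.hR.invRoots_closed hw) hu huf), hbf, by group⟩
  refine (Subgroup.closure_le _).2 ?_ hn0
  rintro _ ⟨i, rfl⟩
  refine wordGL_mem_map C ι fun p hp => ?_
  simp only [ChevalleyDatum.nWord, List.mem_cons, List.not_mem_nil, or_false] at hp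
  rcases hp with rfl | rfl | rfl <;>
    first
      | exact one_mem _
      | exact neg_mem (inv_mem (one_mem _))

include C in
/-- Fixed torus elements normalise the group over the fixed field. -/
theorem conj_torus_mem (hfix : ∀ x, σ x = x → ∃ a, ι a = x) {c : Fin D.rank → Kˣ}
    (h : mapGL σ.toRingHom (C.R.torus c) = C.R.torus c) {y : GL D.Idx K}
    (hy : y ∈ (D.group F).map (mapGL ι)) :
    C.R.torus c * y * (C.R.torus c)⁻¹ ∈ (D.group F).map (mapGL ι) := by
  have hle : (D.group F).map (mapGL ι) ≤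
      ((D.group F).map (mapGL ι)).comap (MulAut.conj (C.R.torus c)).toMonoidHom := by
    unfold ChevalleyDatum.group
    conv_lhs => rw [MonoidHom.map_closure]
    rw [Subgroup.closure_le]
    rintro _ ⟨x, ⟨s, t, hx⟩, rfl⟩
    have hxe : mapGL ι x = C.xGL s.val (ι t) := Units.ext (by
      rw [coe_mapGL, hx, C.coe_xGL, ← ChevField.x_map ι, ChevalleyDatum.x, dif_pos s.isLt])
    rw [SetLike.mem_coe, Subgroup.mem_comap, MulEquiv.coe_toMonoidHom, MulAut.conj_apply]
    change C.R.torus c * mapGL ι x * (C.R.torus c)⁻¹ ∈ (D.group F).map (mapGL ι)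
    rw [hxe, C.acts_torus c s]
    have hchar : σ (C.R.torusChar c (C.R.α s) : K) = (C.R.torusChar c (C.R.α s) : K) := by
      have h1 := congrArg (fun g : GL D.Idx K => (g : Matrix D.Idx D.Idx K) (Sum.inr s) (Sum.inr s)) h
      simpa [coe_mapGL, C.R.coe_torus, RootData.wt] using h1
    obtain ⟨a, ha⟩ := hfix _ hchar
    rw [← ha, ← map_mul]
    exact xGL_mem_map C ι _ _
  exact hle hy

include C in
/-- A power of a fixed torus element is defined over the fixed field. -/
theorem torus_pow_mem (hfix : ∀ x, σ x = x → ∃ a, ι a = x) {g : ℕ}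
    (N : Matrix (Fin D.rank) (Fin D.rank) ℤ) (hN : N * cartanMat D = (g : ℤ) • 1)
    {c : Fin D.rank → Kˣ} (h : mapGL σ.toRingHom (C.R.torus c) = C.R.torus c) :
    C.R.torus c ^ g ∈ (D.group F).map (mapGL ι) := by
  have hchar : ∀ j, σ ((monMap (cartanMat D) c j : Kˣ) : K) = ((monMap (cartanMat D) c j : Kˣ) : K) := by
    intro j
    have hj : monMap (cartanMat D) c j = C.R.torusChar c (C.R.α (D.simple j.val)) := by
      rw [C.R.torusChar_root c (C.R.simple_lt j)]; rfl
    have h1 := congrArg (fun g : GL D.Idx K => (g : Matrix D.Idx D.Idx K)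
      (Sum.inr ⟨_, C.R.simple_lt j⟩) (Sum.inr ⟨_, C.R.simple_lt j⟩)) h
    rw [hj]
    simpa [coe_mapGL, C.R.coe_torus, RootData.wt] using h1
  have hcg : c ^ g = monMap N (monMap (cartanMat D) c) := by
    rw [monMap_mul, hN, monMap_diagonal]
    funext i
    simp
  rw [← map_pow, hcg]
  have hmem : monMap N (monMap (cartanMat D) c) ∈
      ((D.group F).map (mapGL ι)).comap C.R.torus := by
    refine Subgroup.pi_mem_of_mulSingle_mem _ fun i => ?_
    have hfx : σ ((monMap N (monMap (cartanMat D) c) i : Kˣ) : K) =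
        ((monMap N (monMap (cartanMat D) c) i : Kˣ) : K) := by
      show σ ((∏ j, monMap (cartanMat D) c j ^ N i j : Kˣ) : K) = ((∏ j, monMap (cartanMat D) c j ^ N i j : Kˣ) : K)
      simp only [Units.coe_prod, map_prod, Units.val_zpow_eq_zpow_val, map_zpow₀, hchar]
    obtain ⟨a, ha⟩ := hfix _ hfx
    rw [Subgroup.mem_comap, ← RootData.torusSingle, ← C.hGL_simple]
    refine wordGL_mem_map C ι fun p hp => ?_
    have hci : ((monMap N (monMap (cartanMat D) c) i : Kˣ) : K) ∈ ι.fieldRange := ⟨a, ha⟩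
    simp only [ChevalleyDatum.hWord, ChevalleyDatum.nWord, List.cons_append, List.nil_append,
      List.mem_cons, List.not_mem_nil, or_false] at hp
    rcases hp with rfl | rfl | rfl | rfl | rfl | rfl <;>
      first
        | exact hci
        | exact neg_mem (inv_mem hci)
        | exact neg_mem (one_mem _)
        | exact neg_mem (inv_mem (neg_mem (one_mem _)))
  exact hmem

include C in
/-- Fixed elements of order prime to `g` are defined over the fixed field. -/
theorem mem_map_of_coprime (hfix : ∀ x, σ x = x → ∃ a, ι a = x) {g : ℕ}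
    (N : Matrix (Fin D.rank) (Fin D.rank) ℤ) (hN : N * cartanMat D = (g : ℤ) • 1)
    {y : GL D.Idx K} (hy : y ∈ D.group K) (h : mapGL σ.toRingHom y = y)
    (hord : (orderOf y).Coprime g) : y ∈ (D.group F).map (mapGL ι) := by
  obtain ⟨h₁, hh₁, c, h₂, hh₂, hc, rfl⟩ := decomp_fixed C σ ι hfix hy h
  set H := (D.group F).map (mapGL ι)
  set t := C.R.torus c
  have hconj : ∀ z ∈ H, t * z * t⁻¹ ∈ H := fun z hz => conj_torus_mem C σ ι hfix hc hz
  have hmain : ∀ k : ℕ, ∃ z ∈ H, (h₁ * t * h₂) ^ k = z * t ^ k := by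
    intro k
    induction k with
    | zero => exact ⟨1, one_mem _, by simp⟩
    | succ k ih =>
      obtain ⟨z, hz, e⟩ := ih
      have hpow : ∀ (j : ℕ), ∀ x ∈ H, t ^ j * x * (t ^ j)⁻¹ ∈ H := by
        intro j
        induction j with
        | zero => intro x hx; simpa using hx
        | succ j ihj =>
          intro x hx
          have := ihj _ (hconj x hx)
          rw [pow_succ]
          simpa [mul_assoc] using this
      refine ⟨z * (t ^ k * h₁ * (t ^ k)⁻¹) * (t ^ (k + 1) * h₂ * (t ^ (k + 1))⁻¹),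
        mul_mem (mul_mem hz (hpow k _ hh₁)) (hpow (k + 1) _ hh₂), ?_⟩
      rw [pow_succ, e, pow_succ]
      group
  obtain ⟨z, hz, e⟩ := hmain g
  have hg : (h₁ * t * h₂) ^ g ∈ H := e ▸ mul_mem hz (torus_pow_mem C σ ι hfix N hN hc)
  obtain ⟨j, hj⟩ := exists_pow_eq_self_of_coprime hord.symm
  rw [← hj]
  exact pow_mem hg j

end CfsgLib.CycTorus
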