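import Cfsg.Agent.Lib.CycTorus.Algebra
import Cfsg.Agent.Lib.ChevStr.Bruhat
import Cfsg.Agent.Lib.ChevField.Fixed

/-!
Cyclic maximal tori of Chevalley groups with unimodular Cartan matrix whose order is a cyclotomic
value `Φ_d(q)` with `φ(d)` the rank.
-/

set_option autoImplicit false

namespace CfsgLib.CycTorus

open Cfsg.Lie CfsgLib.ChevStr CfsgLib.ChevField Matrix
open scoped MatrixGroups

section Weyl

variable {D : ChevalleyDatum} (R : RootData D)

/-- The matrix of a root permutation on coefficient vectors. -/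
def wMat (w : Equiv.Perm (Fin D.nroots)) : Matrix (Fin D.rank) (Fin D.rank) ℤ :=
  Matrix.of fun i j => R.α (w ⟨D.simple j.val, R.simple_lt j⟩) i

variable {R} (hR : ReflData R)

include hR

theorem wMat_mulVec {w : Equiv.Perm (Fin D.nroots)} (hw : w ∈ hR.weyl) (s : Fin D.nroots) :
    (wMat R w).mulVec (R.α s) = R.α (w s) := by
  rw [hR.α_weyl w hw s]
  funext i
  simp [wMat, Matrix.mulVec, dotProduct, Finset.sum_apply, mul_comm]

theorem wMat_mul {v w : Equiv.Perm (Fin D.nroots)} (hv : v ∈ hR.weyl) :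
    wMat R (v * w) = wMat R v * wMat R w := by
  ext i j
  have h := congrFun (wMat_mulVec hR hv (w ⟨D.simple j.val, R.simple_lt j⟩)) i
  simp only [Matrix.mulVec, dotProduct] at h
  simp only [wMat, Matrix.of_apply, Equiv.Perm.mul_apply, Matrix.mul_apply] at h ⊢
  exact h.symm

theorem wMat_one : wMat R 1 = 1 := by
  ext i j
  simp [wMat, R.α_simple, Matrix.one_apply, Pi.single_apply]

theorem wMat_pow {w : Equiv.Perm (Fin D.nroots)} (hw : w ∈ hR.weyl) (n : ℕ) :
    wMat R (w ^ n) = wMat R w ^ n := by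
  induction n with
  | zero => simpa using wMat_one hR
  | succ k ih => rw [pow_succ', wMat_mul hR hw, ih, pow_succ']

theorem eq_one_of_wMat {w : Equiv.Perm (Fin D.nroots)} (hw : w ∈ hR.weyl) (h : wMat R w = 1) :
    w = 1 := by
  refine Equiv.ext fun s => Fin.ext (R.α_inj (w s).isLt s.isLt ?_)
  rw [← wMat_mulVec hR hw s, h, Matrix.one_mulVec]
  rfl

end Weyl

section Torus

variable {D : ChevalleyDatum} {K : Type*} [Field K] (C : ChevCore D K)

/-- Values of the character of a torus parameter on the fundamental roots. -/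
abbrev cartanMat (D : ChevalleyDatum) : Matrix (Fin D.rank) (Fin D.rank) ℤ :=
  Matrix.of fun i j => D.cartan j.val (D.simple i.val)

theorem torusChar_eq (c : Fin D.rank → Kˣ) (v : Fin D.rank → ℤ) :
    C.R.torusChar c v = ∏ j, monMap (cartanMat D) c j ^ v j := by
  have h : ∀ j, monMap (cartanMat D) c j ^ v j =
      ∏ k, c k ^ (v j * D.cartan k.val (D.simple j.val)) := fun j => by
    show (∏ k, c k ^ cartanMat D j k) ^ v j = _
    rw [← Finset.prod_zpow]
    exact Finset.prod_congr rfl fun k _ => by rw [← _root_.zpow_mul, mul_comm]; rfl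
  rw [Finset.prod_congr rfl fun j _ => h j, Finset.prod_comm]
  refine Finset.prod_congr rfl fun k _ => ?_
  rw [prod_zpow_eq]
  congr 1
  rw [pairing_apply]
  exact Finset.sum_congr rfl fun j _ => mul_comm _ _

variable {N : Matrix (Fin D.rank) (Fin D.rank) ℤ} (hN : N * cartanMat D = 1)

include hN

omit C in
theorem monMap_inv (c : Fin D.rank → Kˣ) : monMap N (monMap (cartanMat D) c) = c := by
  rw [monMap_mul, hN]
  exact monMap_one c

omit C in
theorem monMap_inv' (c : Fin D.rank → Kˣ) : monMap (cartanMat D) (monMap N c) = c := by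
  rw [monMap_mul, mul_eq_one_comm.1 hN]
  exact monMap_one c

theorem torus_injective : Function.Injective (C.R.torus (F := K)) := by
  rw [injective_iff_map_eq_one]
  intro c hc
  rw [C.torus_eq_one_iff] at hc
  rw [← monMap_inv hN c, show monMap (cartanMat D) c = fun _ => 1 from hc]
  exact monMap_map_one _

theorem eq_of_torusChar {a b : Fin D.rank → Kˣ}
    (h : ∀ v, C.R.torusChar a v = C.R.torusChar b v) : a = b := by
  rw [← monMap_inv hN a, ← monMap_inv hN b]
  congr 1
  funext j
  have := h (Pi.single j 1)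
  rw [torusChar_eq, torusChar_eq, Fintype.prod_eq_single j, Fintype.prod_eq_single j] at this
  · simpa using this
  · intro k hk; simp [hk]
  · intro k hk; simp [hk]

omit hN in
theorem torus_char_apply (c : Fin D.rank → Kˣ) (s : Fin D.nroots) :
    C.R.torus c * C.xGL s 1 * (C.R.torus c)⁻¹ = C.xGL s (C.R.torusChar c (C.R.α s) : K) := by
  rw [C.acts_torus c s 1, mul_one]

omit hN in
theorem moves_linear {m : GL D.Idx K} (hmn : m ∈ D.monomialSubgroup K)
    {w : Equiv.Perm (Fin D.nroots)} (hm : C.Moves m w) (s : Fin D.nroots) :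
    ∃ e : K, e ≠ 0 ∧ ∀ t : K, m * C.xGL s t * m⁻¹ = C.xGL (w s) (e * t) := by
  obtain ⟨n0, hn0, hacts⟩ := C.exists_rep hm.1
  have hn0m := C.rep_mem_monomial hn0
  have hd : m * n0⁻¹ ∈ D.diagonalSubgroup K :=
    C.mem_diagonal_of_moves_one (mul_mem hmn (inv_mem hn0m))
      (by simpa using ChevCore.Moves.mul C hm (ChevCore.Moves.inv C hn0m (ChevCore.Acts.moves C hacts)))
  rw [C.diagonalSubgroup_eq] at hd
  obtain ⟨c, hc⟩ := hd
  obtain ⟨-, e, he⟩ := hacts
  refine ⟨(C.R.torusChar c (C.R.α (w s)) : K) * ((e s : ℤ) : K), ?_, fun t => ?_⟩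
  · refine mul_ne_zero (Units.ne_zero _) ?_
    rcases (he s).1 with h | h <;> simp [h]
  · have h1 := C.acts_torus c (w s) (((e s : ℤ) : K) * t)
    rw [← (he s).2.2 t, ← mul_assoc ((C.R.torusChar c (C.R.α (w s)) : Kˣ) : K)] at h1
    rw [show m = C.R.torus c * n0 by rw [hc, inv_mul_cancel_right], ← h1]
    group

omit hN in
theorem torusChar_conj {m : GL D.Idx K} (hmn : m ∈ D.monomialSubgroup K)
    {w : Equiv.Perm (Fin D.nroots)} (hm : C.Moves m w)
    {a b : Fin D.rank → Kˣ} (h : m * C.R.torus a * m⁻¹ = C.R.torus b) (v : Fin D.rank → ℤ) :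
    C.R.torusChar b ((wMat C.R w).mulVec v) = C.R.torusChar a v := by
  have hs : ∀ s : Fin D.nroots, C.R.torusChar b (C.R.α (w s)) = C.R.torusChar a (C.R.α s) := by
    intro s
    obtain ⟨e, he0, he⟩ := moves_linear C hmn hm s
    have key : C.xGL (w s) ((C.R.torusChar b (C.R.α (w s)) : K) * e) =
        C.xGL (w s) (e * (C.R.torusChar a (C.R.α s) : K)) := by
      have h1 := C.acts_torus b (w s) e
      have h2 := he (C.R.torusChar a (C.R.α s) : K)
      rw [← torus_char_apply C a s] at h2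
      have h3 := he 1
      rw [mul_one] at h3
      rw [← h1, ← h2, ← h3, ← h]
      group
    have := C.xGL_injective (w s).isLt key
    rw [mul_comm e] at this
    exact Units.ext (mul_right_cancel₀ he0 this)
  have hwv : (wMat C.R w).mulVec v = ∑ j, v j • C.R.α (w ⟨D.simple j.val, C.R.simple_lt j⟩) := by
    funext i
    simp [wMat, Matrix.mulVec, dotProduct, Finset.sum_apply, mul_comm]
  have hsum : ∀ (c : Fin D.rank → Kˣ) (t : Finset (Fin D.rank)) (f : Fin D.rank → Fin D.rank → ℤ),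
      C.R.torusChar c (∑ j ∈ t, v j • f j) = ∏ j ∈ t, C.R.torusChar c (f j) ^ v j := by
    intro c t f
    induction t using Finset.induction_on with
    | empty => simp [C.R.torusChar_zero]
    | insert j t hj ih =>
      rw [Finset.sum_insert hj, Finset.prod_insert hj, C.R.torusChar_add, C.R.torusChar_zsmul, ih]
  rw [hwv, hsum, Finset.prod_congr rfl fun j _ => by rw [hs], torusChar_eq C a v]
  refine Finset.prod_congr rfl fun j _ => ?_
  rw [C.R.torusChar_root a (C.R.simple_lt j)]
  rfl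

omit hN in
/-- A normal form intertwining two torus elements is one of a monomial element doing so, times
unipotent elements centralising them. -/
theorem intertwine_normalForm {w : Equiv.Perm (Fin D.nroots)} (hw : w ∈ C.hR.weyl) {v m u : GL D.Idx K}
    (hv : v ∈ D.posUnipotent K) (c : Fin D.rank → Kˣ) (hm : m ∈ D.monomialSubgroup K)
    (hmw : C.Moves m w) (hu : u ∈ C.Ucl (C.hR.invRoots w)) {a b : Fin D.rank → Kˣ}
    (h : v * C.R.torus c * m * u * C.R.torus a * (v * C.R.torus c * m * u)⁻¹ = C.R.torus b) :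
    m * C.R.torus a * m⁻¹ = C.R.torus b ∧ C.R.torus b * v = v * C.R.torus b ∧
      C.R.torus a * u = u * C.R.torus a := by
  have hβ : v * C.R.torus c ∈ D.borelSubgroup K := C.mem_borel.2 ⟨v, hv, c, rfl⟩
  have hdiag : ∀ d, C.R.torus d ∈ D.diagonalSubgroup K := fun d => by
    rw [C.diagonalSubgroup_eq]; exact ⟨d, rfl⟩
  have htB : ∀ d, C.R.torus d ∈ D.borelSubgroup K := fun d => C.torus_mem_borel d
  have hconjU : ∀ (S : Set ℕ), (∀ r ∈ S, r < D.nroots) → ∀ d, ∀ x ∈ C.Ucl S,
      C.R.torus d * x * (C.R.torus d)⁻¹ ∈ C.Ucl S := by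
    intro S hS d
    have hle : C.Ucl S ≤ (C.Ucl S).comap (MulAut.conj (C.R.torus d)).toMonoidHom :=
      C.Ucl_le fun r hr t => by
        show C.R.torus d * C.xGL r t * (C.R.torus d)⁻¹ ∈ C.Ucl S
        rw [C.acts_torus d ⟨r, hS r hr⟩ t]
        exact C.xGL_mem_Ucl hr _
    exact fun x hx => hle hx
  have hu' : C.R.torus a⁻¹ * u * C.R.torus a ∈ C.Ucl (C.hR.invRoots w) := by
    have := hconjU _ (fun r hr => ((C.hR.invRoots_closed hw).1 r hr).1) a⁻¹ u hu
    rwa [map_inv, inv_inv, ← map_inv] at this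
  have hmd : m * C.R.torus a * m⁻¹ ∈ D.diagonalSubgroup K := C.conj_diagonal_mem hm (hdiag a)
  have hmd' := hmd
  rw [C.diagonalSubgroup_eq] at hmd'
  obtain ⟨a', ha'⟩ := hmd'
  have heq : C.R.torus b * (v * C.R.torus c) * m * u =
      v * C.R.torus c * (m * C.R.torus a * m⁻¹) * m * (C.R.torus a⁻¹ * u * C.R.torus a) := by
    rw [← h, map_inv]; group
  obtain ⟨hb, hu2⟩ := (C.normalForm_unique (mul_mem (htB b) hβ)
    (mul_mem hβ (ha' ▸ htB a')) hm hm hmw hmw hu hu' heq).2.2 rfl
  rw [← ha'] at hb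
  have hcomm : C.R.torus c * C.R.torus a' = C.R.torus a' * C.R.torus c := by
    rw [← map_mul, ← map_mul, mul_comm]
  have hb' : C.R.torus b * v = v * C.R.torus a' := by
    rw [mul_assoc v, hcomm, ← mul_assoc, ← mul_assoc] at hb
    exact mul_right_cancel hb
  have hab : C.R.torus b = C.R.torus a' := by
    have hvU : v⁻¹ * (C.R.torus b * v * (C.R.torus b)⁻¹) ∈ D.posUnipotent K := by
      refine mul_mem (inv_mem hv) ?_
      rw [C.posUnipotent_eq] at hv ⊢
      exact hconjU _ (fun r hr => hr.1) b v hv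
    have e : v⁻¹ * (C.R.torus b * v * (C.R.torus b)⁻¹) = C.R.torus a' * (C.R.torus b)⁻¹ := by
      rw [hb']; group
    have h1 := (Subgroup.eq_bot_iff_forall _).1 C.posUnipotent_inf_diagonal _
      (Subgroup.mem_inf.2 ⟨e ▸ hvU, mul_mem (hdiag a') (inv_mem (hdiag b))⟩)
    exact (mul_inv_eq_one.1 h1).symm
  refine ⟨by rw [← ha', hab], by rw [hb', hab], ?_⟩
  conv_lhs => rw [hu2, map_inv]
  group

omit hN in
/-- Elements intertwining two torus elements lie over a monomial element doing so. -/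
theorem intertwine {g : GL D.Idx K} (hg : g ∈ D.group K) {a b : Fin D.rank → Kˣ}
    (h : g * C.R.torus a * g⁻¹ = C.R.torus b) :
    ∃ w ∈ C.hR.weyl, ∃ m ∈ D.monomialSubgroup K, C.Moves m w ∧
      m * C.R.torus a * m⁻¹ = C.R.torus b ∧
      ∃ v ∈ D.posUnipotent K, ∃ c : Fin D.rank → Kˣ, ∃ u ∈ C.Ucl (C.hR.invRoots w),
        g = v * C.R.torus c * m * u ∧ C.R.torus b * v = v * C.R.torus b ∧
          C.R.torus a * u = u * C.R.torus a := by
  obtain ⟨w, hw, β, hβ, m, hm, hmw, u, hu, rfl⟩ := C.normalForm_exists hg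
  obtain ⟨v, hv, c, rfl⟩ := C.mem_borel.1 hβ
  obtain ⟨h₁, h₂, h₃⟩ := intertwine_normalForm C hw hv c hm hmw hu h
  exact ⟨w, hw, m, hm, hmw, h₁, v, hv, c, u, hu, rfl, h₂, h₃⟩

omit hN in
/-- A unipotent element commuting with a regular torus element is trivial. -/
theorem eq_one_of_commute_regular {a : Fin D.rank → Kˣ}
    (hreg : ∀ s : Fin D.nroots, C.R.torusChar a (C.R.α s) ≠ 1) {u : GL D.Idx K}
    (hu : u ∈ D.posUnipotent K) (h : C.R.torus a * u = u * C.R.torus a) : u = 1 := by
  classical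
  rw [C.posUnipotent_eq] at hu
  have hset := C.setOf_mem_rootList (S := {r | D.IsPosRoot r}) fun r hr => hr.1
  obtain ⟨t, rfl⟩ := C.exists_word (L := C.rootList {r | D.IsPosRoot r}) (ChevCore.sorted_filter _)
    (by rw [hset]; exact C.R.isClosed_pos) u (by rwa [hset])
  have hconj : ∀ L : List ℕ, C.R.torus a * C.word L t * (C.R.torus a)⁻¹ = C.word L
      (fun r => if hr : r < D.nroots then (C.R.torusChar a (C.R.α r) : K) * t r else t r) := by
    intro L
    induction L with
    | nil => simp [ChevCore.word_nil]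
    | cons k L ih =>
      rw [ChevCore.word_cons, ChevCore.word_cons, ← ih]
      by_cases hk : k < D.nroots
      · rw [dif_pos hk, ← C.acts_torus a ⟨k, hk⟩ (t k)]
        group
      · rw [dif_neg hk, C.xGL_of_le (not_lt.1 hk)]
        group
  have hw := hconj (C.rootList {r | D.IsPosRoot r})
  rw [h, mul_inv_cancel_right] at hw
  have hfix := C.word_injective (ChevCore.sorted_filter _)
    (fun r hr => (Set.ext_iff.1 hset r).1 hr) _ _ hw
  rw [ChevCore.word, ChevCore.wordGL]
  refine List.prod_eq_one fun x hx => ?_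
  simp only [List.map_map, List.mem_map, Function.comp] at hx
  obtain ⟨r, hr, rfl⟩ := hx
  have hrlt : r < D.nroots := (hset ▸ (show r ∈ {r | r ∈ C.rootList {r | D.IsPosRoot r}} from hr) :
    r ∈ {r | D.IsPosRoot r}).1
  have h1 := hfix r hr
  rw [dif_pos hrlt] at h1
  have h0 : t r = 0 := by
    have h2 : ((C.R.torusChar a (C.R.α r) : K) - 1) * t r = 0 := by rw [sub_mul, one_mul, ← h1, sub_self]
    rcases mul_eq_zero.1 h2 with h3 | h3
    · exact absurd (Units.ext (sub_eq_zero.1 h3)) (hreg ⟨r, hrlt⟩)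
    · exact h3
  rw [h0, C.xGL_zero]

omit hN in
/-- Regular, freely moved torus elements have the torus as centraliser. -/
theorem mem_diagonal_of_commute {a : Fin D.rank → Kˣ}
    (hreg : ∀ s : Fin D.nroots, C.R.torusChar a (C.R.α s) ≠ 1)
    (hfree : ∀ w ∈ C.hR.weyl, (∀ v, C.R.torusChar a ((wMat C.R w).mulVec v) = C.R.torusChar a v) → w = 1)
    {g : GL D.Idx K} (hg : g ∈ D.group K) (h : g * C.R.torus a = C.R.torus a * g) :
    g ∈ D.diagonalSubgroup K := by
  obtain ⟨w, hw, m, hm, hmw, hma, v, hv, c, u, hu, rfl, hbv, hau⟩ :=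
    intertwine C hg (a := a) (b := a) (by rw [h, mul_inv_cancel_right])
  obtain rfl : w = 1 := hfree w hw (torusChar_conj C hm hmw hma)
  have hv1 := eq_one_of_commute_regular C hreg hv hbv
  have hu1 : u = 1 := by
    refine eq_one_of_commute_regular C hreg ?_ hau
    rw [C.posUnipotent_eq]
    exact C.Ucl_le (fun r hr t => C.xGL_mem_Ucl (C.hR.mem_invSet.1 hr.2).1 t) hu
  rw [hv1, hu1, one_mul, mul_one]
  have hc : C.R.torus c ∈ D.diagonalSubgroup K := by rw [C.diagonalSubgroup_eq]; exact ⟨c, rfl⟩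
  exact mul_mem hc (C.mem_diagonal_of_moves_one hm hmw)

end Torus

end CfsgLib.CycTorus
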