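import Cfsg.Agent.Lib.CycTorus.Group

/-!
Existence of cyclic self-centralising tori of order `Φ_d(q)`, `φ(d)` the rank, in Chevalley groups
with unimodular Cartan matrix.
-/

set_option autoImplicit false

namespace CfsgLib.CycTorus

open Cfsg.Lie CfsgLib.ChevStr CfsgLib.ChevField Matrix Polynomial

/-- `(Q ^ e - 1) = (Q - 1) * g` with `g ≡ e` modulo a divisor of `Q - 1`. -/
theorem exists_geom {r Q : ℕ} (hQ : 1 ≤ Q) (hr : r ∣ Q - 1) (e : ℕ) :
    ∃ g, Q ^ e - 1 = (Q - 1) * g ∧ g ≡ e [MOD r] := by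
  refine ⟨∑ i ∈ Finset.range e, Q ^ i, ?_, ?_⟩
  · rw [mul_comm]
    have h := geom_sum_mul_add (Q - 1) e
    rw [Nat.sub_add_cancel hQ] at h
    omega
  · rw [← ZMod.natCast_eq_natCast_iff]
    have h1 : (Q : ZMod r) = 1 := by
      rw [← Nat.sub_add_cancel hQ, Nat.cast_add, (ZMod.natCast_eq_zero_iff _ _).2 hr, zero_add, Nat.cast_one]
    simp [Nat.cast_sum, h1]

/-- The order of a product `∏ (Q ^ e - 1)` off `r`. -/
theorem exists_prod_geom {r Q : ℕ} (hQ : 1 ≤ Q) (hr : r.Prime) (hrQ : r ∣ Q - 1) :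
    ∀ degs : List ℕ, (∀ e ∈ degs, ¬ r ∣ e) →
      ∃ g, (degs.map fun e => Q ^ e - 1).prod = (Q - 1) ^ degs.length * g ∧ ¬ r ∣ g := by
  intro degs
  induction degs with
  | nil => exact fun _ => ⟨1, by simp, hr.not_dvd_one⟩
  | cons e L ih =>
    intro h
    obtain ⟨g, hg, hgr⟩ := ih fun a ha => h a (List.mem_cons_of_mem _ ha)
    obtain ⟨g', hg', hmod⟩ := exists_geom hQ hrQ e
    refine ⟨g' * g, by rw [List.map_cons, List.prod_cons, hg, hg', List.length_cons, pow_succ]; ring, ?_⟩
    rw [hr.dvd_mul, not_or]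
    refine ⟨fun hd => h e (List.mem_cons_self ..) ?_, hgr⟩
    exact Nat.modEq_zero_iff_dvd.1 (hmod.symm.trans (Nat.modEq_zero_iff_dvd.2 hd))

variable {D : ChevalleyDatum} {F K : Type*} [Field F] [Fintype F] [Field K] [Fintype K]

theorem exists_torus (C : ChevCore D K) (ι : F →+* K) (σ : K ≃+* K) {q : ℕ}
    (hq : Fintype.card F = q) (hσ : ∀ x, σ x = x ^ q) (hfix : ∀ x, σ x = x → ∃ a, ι a = x)
    {d : ℕ} (hd : 0 < d) (hl : d.totient = D.rank) (hK : Fintype.card K = q ^ d)
    (N : Matrix (Fin D.rank) (Fin D.rank) ℤ)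
    (hN : ∀ i k : Fin D.rank,
      ∑ j, N i j * D.cartan k.val (D.simple j.val) = if k = i then 1 else 0)
    {N₀ : ℕ} (degs : List ℕ) (hlen : degs.length = D.rank)
    (hcard : Nat.card (D.group K) = (q ^ d) ^ N₀ * (degs.map fun e => (q ^ d) ^ e - 1).prod)
    (hcardF : ∀ r : ℕ, r.Prime → r ∣ q ^ d - 1 → r ∣ Nat.card (D.group F))
    (hW : ∀ r : ℕ, r.Prime → d ∣ r - 1 → ¬ r ∣ Nat.card C.hR.weyl)
    (hdegW : ∀ e ∈ degs, e ∣ Nat.card C.hR.weyl)
    (hex : ∃ r : ℕ, r.Prime ∧ ¬ r ∣ d ∧ (r : ℤ) ∣ (cyclotomic d ℤ).eval (q : ℤ))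
    (hsmall : ∀ ℓ ∈ d.primeFactors, ∀ b : ZMod (ℓ ^ 2),
      (cyclotomic d (ZMod (ℓ ^ 2))).eval b ≠ 0) :
    ∃ H : Subgroup ↥(D.group F), IsCyclic H ∧
      (Nat.card H : ℤ) = (cyclotomic d ℤ).eval (q : ℤ) ∧
      Subgroup.centralizer (H : Set ↥(D.group F)) = H := by
  classical
  obtain ⟨r, hr, hrd, hrΦ⟩ := hex
  have : Fact r.Prime := ⟨hr⟩
  have hNM : N * cartanMat D = 1 := by
    ext i k
    rw [Matrix.mul_apply, Matrix.one_apply]
    rw [show (∑ j, N i j * cartanMat D j k) = ∑ j, N i j * D.cartan k.val (D.simple j.val) from rfl, hN]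
    exact if_congr eq_comm rfl rfl
  have hq2 : 2 ≤ q := hq ▸ Fintype.one_lt_card
  -- `q` has order `d` modulo `r`
  have hordq : orderOf ((q : ℤ) : ZMod r) = d := by
    have : NeZero ((d : ℕ) : ZMod r) := ⟨by rw [Ne, ZMod.natCast_eq_zero_iff]; exact hrd⟩
    have h0 : (cyclotomic d (ZMod r)).IsRoot ((q : ℤ) : ZMod r) := by
      rw [Polynomial.IsRoot.def, ← map_cyclotomic d (Int.castRingHom (ZMod r)),
        Polynomial.eval_intCast_map, eq_intCast, ZMod.intCast_zmod_eq_zero_iff_dvd]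
      exact hrΦ
    rw [isRoot_cyclotomic_iff] at h0
    exact h0.eq_orderOf.symm
  have hrdW : d ∣ r - 1 := by
    have h0 : ((q : ℤ) : ZMod r) ≠ 0 := by
      intro h
      rw [h, orderOf_zero] at hordq
      omega
    have := ZMod.orderOf_dvd_card_sub_one h0
    rwa [hordq] at this
  have hrW := hW r hr hrdW
  have hrQ : r ∣ q ^ d - 1 := by
    rw [← ZMod.natCast_eq_zero_iff, Nat.cast_sub (Nat.one_le_pow _ _ (by omega)), Nat.cast_pow,
      Nat.cast_one, sub_eq_zero]
    have := pow_orderOf_eq_one ((q : ℤ) : ZMod r)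
    rw [hordq] at this
    simpa using this
  -- the torus contains a Sylow `r`-subgroup
  let G := D.group K
  have hfinK : Finite G := inferInstance
  have htG : ∀ c, C.R.torus c ∈ G := fun c => C.borel_le_group (C.torus_mem_borel c)
  let tG : (Fin D.rank → Kˣ) →* G := (C.R.torus).codRestrict G htG
  have htinj : Function.Injective tG := fun a b h => torus_injective C hNM (congrArg Subtype.val h)
  have hcardT : Nat.card tG.range = (q ^ d - 1) ^ D.rank := by
    rw [← Nat.card_congr (MonoidHom.ofInjective htinj).toEquiv, Nat.card_pi, Finset.prod_const,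
      Finset.card_univ, Fintype.card_fin, Nat.card_units, Nat.card_eq_fintype_card, hK]
  have hidx : ¬ r ∣ tG.range.index := by
    obtain ⟨g, hg, hgr⟩ := exists_prod_geom (Nat.one_le_pow _ _ (by omega)) hr hrQ degs
      fun e he h => hrW (h.trans (hdegW e he))
    have h1 := tG.range.card_mul_index
    rw [hcardT, hcard, hg, hlen] at h1
    have h2 : tG.range.index = (q ^ d) ^ N₀ * g := by
      refine Nat.eq_of_mul_eq_mul_left (pow_pos (show 0 < q ^ d - 1 by
        have := Nat.one_lt_pow hd.ne' (show 1 < q by omega); omega) D.rank) ?_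
      rw [h1]; ring
    rw [h2, hr.dvd_mul, not_or]
    refine ⟨fun h => ?_, hgr⟩
    have h3 := hr.dvd_of_dvd_pow h
    have h4 : r ∣ q ^ d - (q ^ d - 1) := Nat.dvd_sub h3 hrQ
    rw [Nat.sub_sub_self (Nat.one_le_pow _ _ (by omega))] at h4
    exact hr.not_dvd_one h4
  -- an element of order `r` over `F`, conjugated into the torus
  obtain ⟨x, hx⟩ := exists_prime_orderOf_dvd_card' r (hcardF r hr hrQ)
  let inc : ↥(D.group F) →* G := (Subgroup.inclusion (group_map_le ι)).comp ((mapGL ι).subgroupMap (D.group F))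
  have hinc : Function.Injective inc := fun a b h =>
    Subtype.ext (mapGL_injective ι (congrArg Subtype.val h))
  have hxG : orderOf (inc x) = r := by rw [orderOf_injective inc hinc, hx]
  obtain ⟨g₀, _, ⟨a, rfl⟩, hg₀⟩ : ∃ g : G, ∃ h ∈ tG.range, g * inc x * g⁻¹ = h := by
    obtain ⟨P⟩ : Nonempty (Sylow r tG.range) := inferInstance
    let P' : Subgroup G := (P : Subgroup tG.range).map tG.range.subtype
    have hP' : IsPGroup r P' := P.isPGroup'.map _
    have hP'i : ¬ r ∣ P'.index := by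
      rw [Subgroup.index_map_subtype, hr.dvd_mul, not_or]
      exact ⟨P.not_dvd_index, hidx⟩
    let S : Sylow r G := hP'.toSylow hP'i
    obtain ⟨Q, hQ⟩ := (IsPGroup.of_card (n := 1) (p := r)
      (show Nat.card (Subgroup.zpowers (inc x)) = r ^ 1 by
        rw [Nat.card_zpowers, hxG, pow_one])).exists_le_sylow
    obtain ⟨g, hg⟩ := MulAction.exists_smul_eq G Q S
    refine ⟨g, g * inc x * g⁻¹, ?_, rfl⟩
    have : g * inc x * g⁻¹ ∈ (S : Subgroup G) := by
      rw [← hg, Sylow.coe_subgroup_smul]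
      exact Subgroup.smul_mem_pointwise_smul (inc x) (MulAut.conj g) _ (hQ (Subgroup.mem_zpowers _))
    exact (Subgroup.map_subtype_le _) this
  set gg : GL D.Idx K := (g₀ : GL D.Idx K) with hgg
  set xx : GL D.Idx K := mapGL ι (x : GL D.Idx F) with hxx
  have hg₁ : gg * xx * gg⁻¹ = C.R.torus a := congrArg Subtype.val hg₀
  have har : a ^ r = 1 := by
    apply htinj
    rw [map_pow, ← hg₀, conj_pow, map_one, ← hxG, pow_orderOf_eq_one, mul_one, mul_inv_cancel]
  have ha1 : a ≠ 1 := by
    intro h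
    rw [h, map_one, conj_eq_one_iff] at hg₀
    rw [hg₀, orderOf_one] at hxG
    exact hr.ne_one hxG.symm
  -- the Frobenius twist
  have hσι : ∀ b : F, σ (ι b) = ι b := fun b => by
    rw [hσ, ← map_pow, ← hq, FiniteField.pow_card]
  have hσF : ∀ y : GL D.Idx F, mapGL σ.toRingHom (mapGL ι y) = mapGL ι y := fun y => by
    refine Units.ext ?_
    rw [coe_mapGL, coe_mapGL, Matrix.map_map]
    exact congrArg _ (funext hσι)
  have hσt : ∀ c : Fin D.rank → Kˣ, mapGL σ.toRingHom (C.R.torus c) = C.R.torus (c ^ q) := fun c => by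
    rw [mapGL_torus]
    congr 1
    funext k
    exact Units.ext (by simpa using hσ (c k : K))
  have hσG : ∀ y ∈ G, mapGL σ.toRingHom y ∈ G := fun y hy =>
    group_map_le σ.toRingHom ⟨y, hy, rfl⟩
  set n := mapGL σ.toRingHom gg * gg⁻¹ with hn
  have hnG : n ∈ G := mul_mem (hσG _ g₀.2) (inv_mem g₀.2)
  have hna : n * C.R.torus a * n⁻¹ = C.R.torus (a ^ q) := by
    rw [← hσt, ← hg₁, map_mul, map_mul, map_inv, hxx, hσF, hn]
    group
  obtain ⟨w, hw, m, hm, hmw, hma, -⟩ := intertwine C hnG hna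
  -- the character of `a` is an eigenvector of `w⁻¹`
  have hchpow : ∀ (c : Fin D.rank → Kˣ) (e : ℕ) v, C.R.torusChar (c ^ e) v = C.R.torusChar c v ^ e := by
    intro c e v
    induction e with
    | zero => simp [RootData.torusChar]
    | succ k ih => rw [pow_succ, C.R.torusChar_mul, ih, pow_succ]
  set W := wMat C.R w⁻¹ with hWdef
  have hWw : wMat C.R w * W = 1 := by rw [hWdef, ← wMat_mul C.hR hw, mul_inv_cancel, wMat_one C.hR]
  have hE : Eigen r W (q : ℤ) (C.R.torusChar a) := by
    refine ⟨C.R.torusChar_add a, fun v => by rw [← hchpow, har]; simp [RootData.torusChar],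
      fun v => ?_, ?_⟩
    · have := torusChar_conj C hm hmw hma (W.mulVec v)
      rw [Matrix.mulVec_mulVec, hWw, Matrix.one_mulVec, hchpow] at this
      rw [zpow_natCast, this]
    · by_contra h
      push Not at h
      exact ha1 (eq_of_torusChar C hNM fun v => by rw [h]; simp [RootData.torusChar])
  have hWeyl : Finite C.hR.weyl := inferInstance
  have hord : ∀ u ∈ C.hR.weyl, orderOf u ∣ Nat.card C.hR.weyl := fun u hu => by
    simpa using orderOf_dvd_natCard (⟨u, hu⟩ : C.hR.weyl)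
  obtain ⟨hΦW, hinjW⟩ := hE.cyclotomic_zero hr d hd hl hordq (o := orderOf w⁻¹) (orderOf_pos _)
    (fun h => hrW (h.trans (hord _ (inv_mem hw))))
    (by rw [hWdef, ← wMat_pow C.hR (inv_mem hw), pow_orderOf_eq_one, wMat_one C.hR])
  -- freeness
  have hfree : ∀ u ∈ C.hR.weyl,
      (∀ v, C.R.torusChar a ((wMat C.R u).mulVec v) = C.R.torusChar a v) → u = 1 := by
    let S : Subgroup C.hR.weyl :=
      { carrier := {u | ∀ v, C.R.torusChar a ((wMat C.R u.1).mulVec v) = C.R.torusChar a v}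
        one_mem' := fun v => by rw [OneMemClass.coe_one, wMat_one C.hR, Matrix.one_mulVec]
        mul_mem' := fun {u u'} hu hu' v => by
          rw [Subgroup.coe_mul, wMat_mul C.hR u.2, ← Matrix.mulVec_mulVec, hu, hu']
        inv_mem' := fun {u} hu v => by
          rw [← hu, Matrix.mulVec_mulVec, ← wMat_mul C.hR u.2, InvMemClass.coe_inv, mul_inv_cancel,
            wMat_one C.hR, Matrix.one_mulVec] }
    have := Fintype.ofFinite S
    set A := ∑ u : S, wMat C.R u.1.1 with hA
    have hnorm : ∀ u : C.hR.weyl, u ∈ S →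
        (⟨w⁻¹, inv_mem hw⟩ : C.hR.weyl)⁻¹ * u * ⟨w⁻¹, inv_mem hw⟩ ∈ S := by
      intro u hu v
      have hW' : ∀ v, C.R.torusChar a ((wMat C.R w).mulVec v) ^ (q : ℤ) = C.R.torusChar a v := fun v => by
        rw [← hE.eig, Matrix.mulVec_mulVec, hWdef, ← wMat_mul C.hR (inv_mem hw), inv_mul_cancel,
          wMat_one C.hR, Matrix.one_mulVec]
      have hinjq : ∀ v v', C.R.torusChar a v ^ (q : ℤ) = C.R.torusChar a v' ^ (q : ℤ) →
          C.R.torusChar a v = C.R.torusChar a v' := by
        intro v v' h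
        by_contra hne
        refine hE.zpow_ne_one hr (n := (q : ℤ)) ?_ (x := C.R.torusChar a v / C.R.torusChar a v')
          (fun e => hne (div_eq_one.1 e)) ?_ (by rw [div_zpow, h, div_self'])
        · intro hdq
          have : ((q : ℤ) : ZMod r) = 0 := (ZMod.intCast_zmod_eq_zero_iff_dvd _ _).2 hdq
          rw [this, orderOf_zero] at hordq
          omega
        · rw [div_pow, hE.pow, hE.pow, div_one]
      apply hinjq
      show C.R.torusChar a ((wMat C.R (w⁻¹⁻¹ * u.1 * w⁻¹)).mulVec v) ^ (q : ℤ) = _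
      rw [inv_inv, wMat_mul C.hR (mul_mem hw u.2), wMat_mul C.hR hw, ← Matrix.mulVec_mulVec,
        ← Matrix.mulVec_mulVec, hW', hu, hE.eig]
    have hSmem : ∀ u : C.hR.weyl, u ∈ S →
        (⟨w⁻¹, inv_mem hw⟩ : C.hR.weyl) * u * (⟨w⁻¹, inv_mem hw⟩ : C.hR.weyl)⁻¹ ∈ S := by
      intro u hu
      let f : S → S := fun y => ⟨_, hnorm y.1 y.2⟩
      have hf : Function.Injective f := fun y z e => by
        have := congrArg (fun t : S => (t : C.hR.weyl)) e
        simpa [f] using this
      obtain ⟨y, hy⟩ := (Finite.injective_iff_surjective.1 hf) ⟨u, hu⟩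
      have : (⟨w⁻¹, inv_mem hw⟩ : C.hR.weyl) * u * (⟨w⁻¹, inv_mem hw⟩ : C.hR.weyl)⁻¹ = y.1 := by
        have e : (⟨w⁻¹, inv_mem hw⟩ : C.hR.weyl)⁻¹ * y.1 * ⟨w⁻¹, inv_mem hw⟩ = u :=
          congrArg (fun t : S => (t : C.hR.weyl)) hy
        rw [← e]
        group
      rw [this]
      exact y.2
    have hAW : A * W = W * A := by
      rw [hA, Finset.sum_mul, Finset.mul_sum]
      refine Fintype.sum_equiv (Equiv.ofBijective (fun y : S => (⟨_, hnorm y.1 y.2⟩ : S))
        (Finite.injective_iff_bijective.1 fun y z e => by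
          have := congrArg (fun t : S => (t : C.hR.weyl)) e
          simpa using this)) _ _ fun y => ?_
      show wMat C.R y.1.1 * W = W * wMat C.R (w⁻¹⁻¹ * y.1.1 * w⁻¹)
      rw [hWdef, ← wMat_mul C.hR y.1.2, ← wMat_mul C.hR (inv_mem hw)]
      congr 1
      group
    have hA0 : A ≠ 0 := by
      intro hA0
      obtain ⟨v, hv⟩ := hE.ne
      have hAv : C.R.torusChar a (A.mulVec v) = C.R.torusChar a v ^ (Fintype.card S) := by
        have hsum : ∀ (T : Finset S), C.R.torusChar a ((∑ u ∈ T, wMat C.R u.1.1).mulVec v) =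
            C.R.torusChar a v ^ T.card := by
          intro T
          induction T using Finset.induction_on with
          | empty => simp [C.R.torusChar_zero]
          | insert u T hu ih =>
            rw [Finset.sum_insert hu, Matrix.add_mulVec, C.R.torusChar_add, ih, u.2 v,
              Finset.card_insert_of_notMem hu, pow_succ']
        exact hsum Finset.univ
      rw [hA0, Matrix.zero_mulVec, C.R.torusChar_zero, ← zpow_natCast] at hAv
      refine hE.zpow_ne_one hr (fun h => hrW ?_) hv (hE.pow v) hAv.symm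
      rw [← Nat.card_eq_fintype_card] at h
      exact (by exact_mod_cast h : r ∣ Nat.card S).trans (Subgroup.card_subgroup_dvd_card S)
    have hdet := hinjW A hAW hA0
    intro u hu hfix
    have hmul : wMat C.R u * A = A := by
      rw [hA, Finset.mul_sum]
      refine Fintype.sum_equiv (Equiv.mulLeft (⟨⟨u, hu⟩, hfix⟩ : S)) _ _ fun y => ?_
      rw [← wMat_mul C.hR hu]
      rfl
    refine eq_one_of_wMat C.hR hu ?_
    have h2 : (wMat C.R u - 1) * A = 0 := by rw [sub_mul, hmul, one_mul, sub_self]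
    have h3 := congrArg (· * A.adjugate) h2
    simp only [zero_mul, mul_assoc, Matrix.mul_adjugate, mul_smul_comm, mul_one, smul_eq_zero] at h3
    exact sub_eq_zero.1 (h3.resolve_left hdet)
  have hreg : ∀ s : Fin D.nroots, C.R.torusChar a (C.R.α s) ≠ 1 := by
    intro s hs
    obtain ⟨u, hu, k, hk⟩ := C.exists_simple_image s
    have hu' : u * C.hR.sPerm k * u⁻¹ ∈ C.hR.weyl := mul_mem (mul_mem hu (C.hR.sPerm_mem k)) (inv_mem hu)
    have h1 : u * C.hR.sPerm k * u⁻¹ = 1 := by
      refine hfree _ hu' fun v => ?_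
      set v' := (wMat C.R u⁻¹).mulVec v
      have hvv : v = (wMat C.R u).mulVec v' := by
        rw [Matrix.mulVec_mulVec, ← wMat_mul C.hR hu, mul_inv_cancel, wMat_one C.hR, Matrix.one_mulVec]
      have hsk : (wMat C.R (C.hR.sPerm k)).mulVec v' =
          v' - (∑ j, v' j * D.cartan k.val (D.simple j.val)) • C.R.α (D.simple k.val) := by
        funext i
        simp only [wMat, Matrix.mulVec, dotProduct, Matrix.of_apply, ReflData.sPerm_val,
          C.hR.α_refl k _ (C.R.simple_lt _), C.R.α_simple, Pi.sub_apply, Pi.smul_apply, smul_eq_mul,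
          sub_mul, Finset.sum_sub_distrib, Finset.sum_mul]
        congr 1
        · simp [Pi.single_apply]
        · exact Finset.sum_congr rfl fun j _ => by ring
      conv_rhs => rw [hvv]
      rw [wMat_mul C.hR (mul_mem hu (C.hR.sPerm_mem k)), wMat_mul C.hR hu, ← Matrix.mulVec_mulVec,
        ← Matrix.mulVec_mulVec, hsk, Matrix.mulVec_sub, Matrix.mulVec_smul,
        wMat_mulVec C.hR hu ⟨_, C.R.simple_lt k⟩, hk, sub_eq_add_neg, C.R.torusChar_add, ← neg_smul,
        C.R.torusChar_zsmul, hs, _root_.one_zpow, mul_one]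
    rw [conj_eq_one_iff] at h1
    have := congrArg (fun p : Equiv.Perm (Fin D.nroots) => (p ⟨_, C.R.simple_lt k⟩).val) h1
    simp only [Equiv.Perm.one_apply, ReflData.sPerm_val, C.hR.refl_simple_self] at this
    exact C.R.neg_ne _ (C.R.simple_lt k) this
  have hcent : ∀ y ∈ G, y * C.R.torus a = C.R.torus a * y → ∃ c, C.R.torus c = y := by
    intro y hy hcom
    have := mem_diagonal_of_commute C hreg hfree hy hcom
    rwa [C.diagonalSubgroup_eq] at this
  -- `n` lies over `m`
  obtain ⟨c₀, hc₀⟩ : ∃ c, C.R.torus c = m⁻¹ * n := by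
    refine hcent _ (mul_mem (inv_mem (C.monomial_le_group hm)) hnG) ?_
    have e : n * C.R.torus a = m * C.R.torus a * m⁻¹ * n := by rw [hma, ← hna]; group
    rw [mul_assoc, e]; group
  have hnconj : ∀ c, n * C.R.torus c * n⁻¹ = m * C.R.torus c * m⁻¹ := fun c => by
    rw [show n = m * C.R.torus c₀ by rw [hc₀, mul_inv_cancel_left],
      mul_assoc m, ← map_mul, mul_comm c₀ c, map_mul]
    group
  -- the matrix of the twisted torus
  set M₀ : Matrix (Fin D.rank) (Fin D.rank) ℤ := (Matrix.scalar (Fin D.rank) (q : ℤ) - W)ᵀ with hM₀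
  have hkey : ∀ c, mapGL σ.toRingHom (C.R.torus c) = n * C.R.torus c * n⁻¹ ↔
      monMap M₀ (monMap (cartanMat D) c) = 1 := by
    intro c
    have hdm := C.conj_diagonal_mem hm (show C.R.torus c ∈ D.diagonalSubgroup K by
      rw [C.diagonalSubgroup_eq]; exact ⟨c, rfl⟩)
    rw [C.diagonalSubgroup_eq] at hdm
    obtain ⟨b, hb⟩ := hdm
    rw [hσt, hnconj, ← hb, (torus_injective C hNM).eq_iff]
    have hbc : ∀ v, C.R.torusChar b v = C.R.torusChar c (W.mulVec v) := fun v => by
      have := torusChar_conj C hm hmw hb.symm (W.mulVec v)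
      rw [Matrix.mulVec_mulVec, hWw, Matrix.one_mulVec] at this
      exact this
    have hcoord : ∀ j, monMap M₀ (monMap (cartanMat D) c) j =
        C.R.torusChar (c ^ q) (Pi.single j 1) / C.R.torusChar b (Pi.single j 1) := fun j => by
      rw [hbc, hchpow, torusChar_eq C c, torusChar_eq C c, ← Finset.prod_pow, ← Finset.prod_div_distrib]
      show ∏ i, monMap (cartanMat D) c i ^ M₀ j i = _
      refine Finset.prod_congr rfl fun i _ => ?_
      rw [← zpow_natCast (monMap (cartanMat D) c i ^ _) q, ← _root_.zpow_mul, div_eq_mul_inv, ← _root_.zpow_sub]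
      congr 1
      simp [hM₀, Matrix.mulVec_single, Pi.single_apply, Matrix.natCast_apply, eq_comm]
    constructor
    · intro h
      funext j
      rw [hcoord, h, div_self']
      rfl
    · intro h
      refine eq_of_torusChar C hNM fun v => ?_
      rw [torusChar_eq C (c ^ q), torusChar_eq C b]
      refine Finset.prod_congr rfl fun j _ => ?_
      have h1 := congrFun h j
      rw [hcoord, Pi.one_apply, div_eq_one] at h1
      have hsingle : ∀ (e : Fin D.rank → Kˣ), C.R.torusChar e (Pi.single j 1) = monMap (cartanMat D) e j := by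
        intro e
        rw [torusChar_eq C e, Fintype.prod_eq_single j]
        · simp
        · intro i hi; simp [hi]
      rw [hsingle, hsingle] at h1
      rw [h1]
  have hdet : M₀.det = (cyclotomic d ℤ).eval (q : ℤ) := by
    rw [hM₀, Matrix.det_transpose, det_sub_eq W hd hl hΦW]
  have hpos : 0 < (cyclotomic d ℤ).eval (q : ℤ) := cyclotomic_pos' d (by exact_mod_cast hq2)
  obtain ⟨Nn, hNn⟩ := Int.eq_ofNat_of_zero_le hpos.le
  have hdvdN : Nn ∣ Fintype.card K - 1 := by
    rw [hK]
    have := Polynomial.eval_dvd (x := (q : ℤ)) (cyclotomic.dvd_X_pow_sub_one d ℤ)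
    rw [eval_sub, eval_pow, eval_X, eval_one, hNn] at this
    rw [← Int.natCast_dvd_natCast, Nat.cast_sub (Nat.one_le_pow _ _ (by omega))]
    push_cast
    exact this
  obtain ⟨hcyc, hcardA⟩ := isCyclic_ker (K := K) M₀ (N := Nn) (by omega) (by rw [hdet, hNn]) hdvdN
    (fun ℓ hℓ hℓN => by
      obtain ⟨i, j, hij⟩ := exists_adjugate W hd hl hΦW hsmall (q : ℤ) hℓ (by rw [hNn]; exact_mod_cast hℓN)
      refine ⟨j, i, ?_⟩
      rwa [hM₀, ← Matrix.adjugate_transpose, Matrix.transpose_apply])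
  set A := (monHom (G := Kˣ) M₀).ker with hA
  -- the embedding
  have hback : ∀ f : A, gg⁻¹ * C.R.torus (monMap N f.1) * gg ∈ (D.group F).map (mapGL ι) := by
    intro f
    refine mem_map_of_fixed C σ ι hfix N hN
      (mul_mem (mul_mem (inv_mem g₀.2) (htG _)) g₀.2) ?_
    have hf : monMap M₀ (monMap (cartanMat D) (monMap N f.1)) = 1 := by
      rw [monMap_inv' hNM]; exact f.2
    rw [map_mul, map_mul, map_inv, (hkey _).2 hf, hn]
    group
  choose y hyF hy using hback
  let Φ : A →* ↥(D.group F) := MonoidHom.mk' (fun f => ⟨y f, hyF f⟩) fun f f' => by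
    refine Subtype.ext (mapGL_injective ι ?_)
    rw [Subgroup.coe_mul, map_mul, hy, hy, hy, Subgroup.coe_mul,
      show monMap N (f.1 * f'.1) = monMap N f.1 * monMap N f'.1 from map_mul (monHom N) _ _, map_mul]
    group
  have hΦinj : Function.Injective Φ := by
    intro f f' e
    have h1 := congrArg (fun t : ↥(D.group F) => mapGL ι (t : GL D.Idx F)) e
    change mapGL ι (y f) = mapGL ι (y f') at h1
    rw [hy, hy, mul_left_inj, mul_right_inj] at h1
    have h2 := congrArg (monMap (cartanMat D)) (torus_injective C hNM h1)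
    rw [monMap_inv' hNM, monMap_inv' hNM] at h2
    exact Subtype.ext h2
  have hrange : ∀ z : ↥(D.group F), z * x = x * z → z ∈ Φ.range := by
    intro z hz
    set zz : GL D.Idx K := mapGL ι (z : GL D.Idx F) with hzz
    have hzG : zz ∈ G := group_map_le ι ⟨z, z.2, rfl⟩
    have hcm : zz * xx = xx * zz := by
      rw [hzz, hxx, ← map_mul, ← map_mul, ← Subgroup.coe_mul, hz]; rfl
    obtain ⟨c, hc⟩ := hcent (gg * zz * gg⁻¹) (mul_mem (mul_mem g₀.2 hzG) (inv_mem g₀.2)) (by
      rw [← hg₁]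
      calc gg * zz * gg⁻¹ * (gg * xx * gg⁻¹) = gg * (zz * xx) * gg⁻¹ := by group
        _ = _ := by rw [hcm]; group)
    have hf : monMap (cartanMat D) c ∈ A := by
      refine (hkey c).1 ?_
      rw [hc, map_mul, map_mul, map_inv, hzz, hσF, hn]
      group
    refine ⟨⟨_, hf⟩, Subtype.ext (mapGL_injective ι ?_)⟩
    show mapGL ι (y ⟨_, hf⟩) = zz
    rw [hy, monMap_inv hNM, hc]
    group
  have hcomm : ∀ u ∈ Φ.range, ∀ v ∈ Φ.range, u * v = v * u := by
    rintro _ ⟨u, rfl⟩ _ ⟨v, rfl⟩
    rw [← map_mul, ← map_mul]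
    exact congrArg Φ (Subtype.ext (mul_comm u.1 v.1))
  refine ⟨Φ.range, ?_, ?_, ?_⟩
  · exact isCyclic_of_surjective Φ.rangeRestrict Φ.rangeRestrict_surjective
  · rw [← Nat.card_congr (MonoidHom.ofInjective hΦinj).toEquiv, hcardA, hNn]
  · refine le_antisymm (fun z hz => hrange z ?_) fun z hz => Subgroup.mem_centralizer_iff.2 fun u hu =>
      hcomm u hu z hz
    exact (Subgroup.mem_centralizer_iff.1 hz x (hrange x rfl)).symm

end CfsgLib.CycTorus
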