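import Cfsg.Agent.Lib.CycTorus.Twisted
import Cfsg.Agent.Lib.CycTorus.FixedPrime
import Cfsg.Agent.Lib.CycTorus.Main

/-!
Sylow subgroups of Chevalley groups for primes prime to the order of the Weyl group are homocyclic.
-/

set_option autoImplicit false

namespace CfsgLib.CycTorus

open Cfsg.Lie CfsgLib.ChevStr CfsgLib.ChevField Matrix
open scoped MatrixGroups

variable {D : ChevalleyDatum} {F K : Type*} [Field F] [Fintype F] [Field K] [Fintype K]

/-- The stabiliser in the Weyl group of a family of tuples. -/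
noncomputable def fixator (C : ChevCore D K) {ι : Type*} (f : ι → Fin D.rank → Kˣ) :
    Subgroup C.hR.weyl where
  carrier := {u | ∀ x, monMap (wMat C.R u.1)ᵀ (f x) = f x}
  one_mem' := fun x => by rw [OneMemClass.coe_one, wMat_one C.hR, monMap_transpose_one]
  mul_mem' := fun {u v} hu hv x => by
    rw [Subgroup.coe_mul, wMat_mul C.hR u.2, ← monMap_transpose_mul, hu, hv]
  inv_mem' := fun {u} hu x => by
    conv_lhs => rw [← hu x, monMap_transpose_mul, ← wMat_mul C.hR u.2]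
    rw [InvMemClass.coe_inv, mul_inv_cancel, wMat_one C.hR, monMap_transpose_one]

omit [Fintype K] in
/-- A root killed by a family of tuples gives a reflection fixing it, and that reflection negates it. -/
theorem exists_reflection (C : ChevCore D K) {ι : Type*} (a : ι → Fin D.rank → Kˣ) (s : Fin D.nroots)
    (hs : ∀ x, C.R.torusChar (a x) (C.R.α s) = 1) :
    ∃ u : C.hR.weyl, u ∈ fixator C (fun x => coords (a x)) ∧
      (wMat C.R u.1).mulVec (C.R.α s) = - C.R.α s := by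
  obtain ⟨u, hu, k, hk⟩ := C.exists_simple_image s
  have hu' : u * C.hR.sPerm k * u⁻¹ ∈ C.hR.weyl :=
    mul_mem (mul_mem hu (C.hR.sPerm_mem k)) (inv_mem hu)
  refine ⟨⟨_, hu'⟩, fun x => chi_ext fun v => ?_, ?_⟩
  · show chi (monMap (wMat C.R (u * C.hR.sPerm k * u⁻¹))ᵀ (coords (a x))) v = chi (coords (a x)) v
    rw [← chi_mulVec, ← torusChar_eq_chi C, ← torusChar_eq_chi C]
    set v' := (wMat C.R u⁻¹).mulVec v
    have hvv : v = (wMat C.R u).mulVec v' := by
      rw [Matrix.mulVec_mulVec, ← wMat_mul C.hR hu, mul_inv_cancel, wMat_one C.hR, Matrix.one_mulVec]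
    have hsk : (wMat C.R (C.hR.sPerm k)).mulVec v' =
        v' - (∑ j, v' j * D.cartan k.val (D.simple j.val)) • C.R.α (D.simple k.val) := by
      funext i
      simp only [wMat, Matrix.mulVec, dotProduct, Matrix.of_apply, ReflData.sPerm_val,
        C.hR.α_refl k _ (C.R.simple_lt _), C.R.α_simple, Pi.sub_apply, Pi.smul_apply, smul_eq_mul,
        sub_mul, Finset.sum_sub_distrib, Finset.sum_mul]
      congr 1
      · simp [Pi.single_apply]
      · exact Finset.sum_congr rfl fun j _ => by ring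
    conv_rhs => rw [hvv]
    rw [wMat_mul C.hR (mul_mem hu (C.hR.sPerm_mem k)), wMat_mul C.hR hu, ← Matrix.mulVec_mulVec,
      ← Matrix.mulVec_mulVec, hsk, Matrix.mulVec_sub, Matrix.mulVec_smul,
      wMat_mulVec C.hR hu ⟨_, C.R.simple_lt k⟩, hk, sub_eq_add_neg, C.R.torusChar_add, ← neg_smul,
      C.R.torusChar_zsmul, hs, _root_.one_zpow, mul_one]
  · show (wMat C.R (u * C.hR.sPerm k * u⁻¹)).mulVec (C.R.α s) = _
    rw [wMat_mulVec C.hR hu', Equiv.Perm.mul_apply, Equiv.Perm.mul_apply, ← hk,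
      show u⁻¹ (u ⟨D.simple k.val, C.R.simple_lt k⟩) = ⟨D.simple k.val, C.R.simple_lt k⟩ from
        u.symm_apply_apply _, ← wMat_mulVec C.hR hu]
    conv_rhs => rw [← wMat_mulVec C.hR hu, ← Matrix.mulVec_neg]
    congr 1
    rw [ReflData.sPerm_val, C.hR.refl_simple_self, C.R.α_neg _ (C.R.simple_lt k)]

/-- A subgroup of order `r ^ k` is conjugate into the torus, the torus having index prime to `r`. -/
theorem exists_conj_torus {r : ℕ} [Fact r.Prime] (C : ChevCore D K)
    (hidx : ¬ r ∣ ((C.R.torus (F := K)).codRestrict (D.group K)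
      fun c => C.borel_le_group (C.torus_mem_borel c)).range.index)
    {P : Subgroup ↥(D.group K)} (hP : IsPGroup r P) :
    ∃ g : ↥(D.group K), ∀ x ∈ P, ∃ c : Fin D.rank → Kˣ,
      C.R.torus c = ((g * x * g⁻¹ : ↥(D.group K)) : GL D.Idx K) := by
  have hr : r.Prime := Fact.out
  set T := ((C.R.torus (F := K)).codRestrict (D.group K)
      fun c => C.borel_le_group (C.torus_mem_borel c)).range with hT
  obtain ⟨S₀⟩ : Nonempty (Sylow r T) := inferInstance
  let S₁ : Subgroup ↥(D.group K) := (S₀ : Subgroup T).map T.subtype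
  have hS₁ : IsPGroup r S₁ := S₀.isPGroup'.map _
  have hS₁i : ¬ r ∣ S₁.index := by
    rw [Subgroup.index_map_subtype, hr.dvd_mul, not_or]
    exact ⟨S₀.not_dvd_index, hidx⟩
  obtain ⟨Q, hQ⟩ := hP.exists_le_sylow
  obtain ⟨g, hg⟩ := MulAction.exists_smul_eq ↥(D.group K) Q (hS₁.toSylow hS₁i)
  refine ⟨g, fun x hx => ?_⟩
  have h : g * x * g⁻¹ ∈ ((hS₁.toSylow hS₁i : Sylow r ↥(D.group K)) : Subgroup ↥(D.group K)) := by
    rw [← hg, Sylow.coe_subgroup_smul]
    exact Subgroup.smul_mem_pointwise_smul x (MulAut.conj g) _ (hQ hx)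
  obtain ⟨c, hc⟩ := (Subgroup.map_subtype_le _) h
  exact ⟨c, congrArg Subtype.val hc⟩

/-- The Sylow subgroup is homocyclic of exponent `r ^ j`. -/
theorem exists_sylow_equiv (C : ChevCore D K) (ι : F →+* K) (σ : K ≃+* K) {q : ℕ}
    (hq : Fintype.card F = q) (hσ : ∀ x, σ x = x ^ q) (hfix : ∀ x, σ x = x → ∃ a, ι a = x)
    {r : ℕ} [Fact r.Prime] (hr2 : r ≠ 2) {j : ℕ} (hj : 0 < j)
    (hdvd : r ^ j ∣ Fintype.card K - 1) (hmax : ¬ r ^ (j + 1) ∣ Fintype.card K - 1)
    (hsplit : ∀ o : ℕ, q ^ o ≡ 1 [MOD r] → q ^ o ≡ 1 [MOD r ^ j])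
    {g : ℕ} (hrg : ¬ r ∣ g) (N : Matrix (Fin D.rank) (Fin D.rank) ℤ)
    (hN : N * cartanMat D = (g : ℤ) • 1) (hN' : cartanMat D * N = (g : ℤ) • 1)
    (hrW : ¬ r ∣ Nat.card C.hR.weyl)
    (hidx : ¬ r ∣ ((C.R.torus (F := K)).codRestrict (D.group K)
      fun c => C.borel_le_group (C.torus_mem_borel c)).range.index)
    (P : Sylow r ↥(D.group F)) (hP : 1 < Nat.card (P : Subgroup ↥(D.group F))) :
    ∃ e, Nonempty (↥(P : Subgroup ↥(D.group F)) ≃* (Fin e → Multiplicative (ZMod (r ^ j)))) := by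
  classical
  have hr : r.Prime := Fact.out
  let G := D.group K
  let inc : ↥(D.group F) →* G :=
    (Subgroup.inclusion (group_map_le ι)).comp ((mapGL ι).subgroupMap (D.group F))
  have hinc : Function.Injective inc := fun a b h =>
    Subtype.ext (mapGL_injective ι (congrArg Subtype.val h))
  obtain ⟨g₀, hg₀⟩ := exists_conj_torus C hidx (P.isPGroup'.map inc)
  choose c hc using fun x : (P : Subgroup ↥(D.group F)) => hg₀ (inc x.1) (Subgroup.mem_map_of_mem _ x.2)
  set gg : GL D.Idx K := (g₀ : GL D.Idx K) with hgg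
  have hc' : ∀ x, C.R.torus (c x) = gg * mapGL ι (x.1 : GL D.Idx F) * gg⁻¹ := fun x => hc x
  set f : ↥(P : Subgroup ↥(D.group F)) → Fin D.rank → Kˣ := fun x => coords (c x) with hf
  have hfm : ∀ x, f x ^ r ^ j = 1 := by
    intro x
    obtain ⟨k, hk⟩ := P.isPGroup' x
    have h1 : f x ^ r ^ k = 1 := by
      have e : C.R.torus (c x ^ r ^ k) = C.R.torus 1 := by
        rw [map_pow, hc', conj_pow, ← map_pow, ← Subgroup.coe_pow, ← Subgroup.coe_pow, hk, map_one]
        simp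
      simp only [hf]
      rw [← coords_pow]
      exact ((torus_eq_iff C).1 e).trans (map_one (monHom (cartanMat D)))
    funext i
    have h2 : orderOf (f x i) ∣ r ^ k := orderOf_dvd_iff_pow_eq_one.2 (congrFun h1 i)
    obtain ⟨t, -, ht⟩ := (Nat.dvd_prime_pow hr).1 h2
    have h3 : orderOf (f x i) ∣ Fintype.card K - 1 := by
      rw [← Nat.card_eq_fintype_card, ← Nat.card_units]; exact orderOf_dvd_natCard _
    refine (orderOf_dvd_iff_pow_eq_one.1 (ht ▸ pow_dvd_pow r ?_) : f x i ^ r ^ j = 1)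
    by_contra hlt
    exact hmax ((pow_dvd_pow r (by omega)).trans (ht ▸ h3))
  -- the Frobenius twist
  have hσι : ∀ b : F, σ (ι b) = ι b := fun b => by
    rw [hσ, ← map_pow, ← hq, FiniteField.pow_card]
  have hσF : ∀ y : GL D.Idx F, mapGL σ.toRingHom (mapGL ι y) = mapGL ι y := fun y => by
    refine Units.ext ?_
    rw [coe_mapGL, coe_mapGL, Matrix.map_map]
    exact congrArg _ (funext hσι)
  have hσt : ∀ b : Fin D.rank → Kˣ, mapGL σ.toRingHom (C.R.torus b) = C.R.torus (b ^ q) := fun b => by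
    rw [mapGL_torus]
    congr 1
    funext k
    exact Units.ext (by simpa using hσ (b k : K))
  set n := mapGL σ.toRingHom gg * gg⁻¹ with hn
  have hnG : n ∈ G := mul_mem (group_map_le σ.toRingHom ⟨gg, g₀.2, rfl⟩) (inv_mem g₀.2)
  have hna : ∀ x, n * C.R.torus (c x) * n⁻¹ = C.R.torus (c x ^ q) := fun x => by
    rw [← hσt, hc', map_mul, map_mul, map_inv, hσF, hn]
    group
  obtain ⟨w, hw, β, hβ, m, hm, hmw, u, hu, hnf⟩ := C.normalForm_exists hnG
  obtain ⟨v, hv, c₀, rfl⟩ := C.mem_borel.1 hβ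
  have hdata := fun x => intertwine_normalForm C hw hv c₀ hm hmw hu (a := c x) (b := c x ^ q)
    (by rw [← hnf]; exact hna x)
  set W := wMat C.R w⁻¹ with hWdef
  have hWw : wMat C.R w * W = 1 := by rw [hWdef, ← wMat_mul C.hR hw, mul_inv_cancel, wMat_one C.hR]
  have hfw : ∀ x, monMap (wMat C.R w)ᵀ (f x ^ q) = f x := fun x => chi_ext fun v => by
    rw [← chi_mulVec]
    simp only [hf]
    rw [← coords_pow, ← torusChar_eq_chi C, ← torusChar_eq_chi C]
    exact torusChar_conj C hm hmw (hdata x).1 v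
  have hfW : ∀ x, monMap Wᵀ (f x) = f x ^ q := fun x => by
    conv_lhs => rw [← hfw x, monMap_transpose_mul, hWw, monMap_transpose_one]
  -- the group of twisted tuples
  let ρ : fixator C f → Matrix (Fin D.rank) (Fin D.rank) ℤ := fun u => wMat C.R u.1.1
  let A := twisted K (Set.range ρ) W q (r ^ j)
  have hfA : ∀ x, f x ∈ A := fun x => ⟨hfm x, by rintro _ ⟨u, rfl⟩; exact u.2 x, hfW x⟩
  obtain ⟨gi, hgi⟩ : ∃ gi, g * gi ≡ 1 [MOD r ^ j] := by
    obtain ⟨gi, -, h⟩ := Nat.exists_mul_mod_eq_one_of_coprime (k := r ^ j) (n := g)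
      (Nat.Coprime.pow_right j (Nat.coprime_comm.1 (hr.coprime_iff_not_dvd.2 hrg)))
      (Nat.one_lt_pow hj.ne' hr.one_lt)
    exact ⟨gi, by rw [Nat.ModEq, h, Nat.mod_eq_of_lt (Nat.one_lt_pow hj.ne' hr.one_lt)]⟩
  let τ : (Fin D.rank → Kˣ) →* (Fin D.rank → Kˣ) := (monHom N).comp (powMonoidHom gi)
  have hτ : ∀ b : Fin D.rank → Kˣ, b ^ r ^ j = 1 → coords (τ b) = b := by
    intro b hb
    show monMap (cartanMat D) (monMap N (b ^ gi)) = b
    rw [monMap_mul, hN', monMap_diagonal]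
    funext i
    have hbi : (b i) ^ r ^ j = 1 := congrFun hb i
    rw [Pi.pow_apply, zpow_natCast, ← pow_mul, mul_comm]
    conv_rhs => rw [← pow_one (b i)]
    exact (pow_eq_pow_iff_modEq (x := b i)).2 (hgi.of_dvd (orderOf_dvd_iff_pow_eq_one.2 hbi))
  have hroot : ∀ b ∈ A, ∀ s : Fin D.nroots, (∀ x, C.R.torusChar (c x) (C.R.α s) = 1) →
      C.R.torusChar (τ b) (C.R.α s) = 1 := by
    intro b hb s hs
    obtain ⟨u', hu', hneg⟩ := exists_reflection C c s hs
    have h1 : chi b ((wMat C.R u'.1).mulVec (C.R.α s)) = chi b (C.R.α s) := by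
      rw [chi_mulVec, hb.2.1 _ ⟨⟨u', hu'⟩, rfl⟩]
    rw [hneg] at h1
    rw [torusChar_eq_chi C, hτ b hb.1]
    set z := chi b (C.R.α s)
    have hz2 : z ^ 2 = 1 := by
      have hzi : chi b (-C.R.α s) = z⁻¹ := by
        simp only [z, chi, Pi.neg_apply, _root_.zpow_neg, Finset.prod_inv_distrib]
      rw [hzi] at h1
      rw [pow_two]
      nth_rw 1 [← h1]
      exact inv_mul_cancel z
    have hzm : z ^ r ^ j = 1 := by
      simp only [z]
      rw [← chi_pow, hb.1]
      simp [chi]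
    exact orderOf_eq_one_iff.1 (Nat.eq_one_of_dvd_coprimes
      (Nat.Coprime.pow_right j ((Nat.coprime_primes Nat.prime_two hr).2 (Ne.symm hr2)))
      (orderOf_dvd_iff_pow_eq_one.2 hz2) (orderOf_dvd_iff_pow_eq_one.2 hzm))
  have hpowroot : ∀ s : Fin D.nroots, (∀ x, C.R.torusChar (c x ^ q) (C.R.α s) = 1) →
      ∀ x, C.R.torusChar (c x) (C.R.α s) = 1 := by
    intro s hs x
    have h1 := hs x
    rw [torusChar_eq_chi C, coords_pow] at h1
    have h2 : monMap (wMat C.R w)ᵀ (f x ^ q) = f x := hfw x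
    rw [torusChar_eq_chi C]
    set z := chi (coords (c x)) (C.R.α s)
    have hzq : z ^ q = 1 := by rw [← h1, chi_pow]
    have hzm : z ^ r ^ j = 1 := by
      simp only [z]
      rw [← chi_pow, show coords (c x) ^ r ^ j = 1 from hfm x]
      simp [chi]
    refine orderOf_eq_one_iff.1 (Nat.eq_one_of_dvd_coprimes (Nat.Coprime.pow_right j ?_)
      (orderOf_dvd_iff_pow_eq_one.2 hzq) (orderOf_dvd_iff_pow_eq_one.2 hzm))
    refine Nat.coprime_comm.1 (hr.coprime_iff_not_dvd.2 fun hrq => ?_)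
    have h3 := hq ▸ hrq
    have hone : r ∣ Fintype.card K - 1 := (dvd_pow_self r hj.ne').trans hdvd
    have hchar : r ∣ Fintype.card K := by
      let _ := ι.toAlgebra
      rw [Module.card_eq_pow_finrank (K := F) (V := K), hq]
      exact dvd_pow hrq Module.finrank_pos.ne'
    have h4 := Nat.dvd_sub hchar hone
    rw [Nat.sub_sub_self Fintype.card_pos] at h4
    exact hr.not_dvd_one h4
  have hfixed : ∀ b ∈ A, mapGL σ.toRingHom (gg⁻¹ * C.R.torus (τ b) * gg) = gg⁻¹ * C.R.torus (τ b) * gg := by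
    intro b hb
    have hbq : b ^ q ∈ A := pow_mem hb q
    have e : (τ b) ^ q = τ (b ^ q) := (map_pow τ b q).symm
    have hmt : m * C.R.torus (τ b) * m⁻¹ = C.R.torus ((τ b) ^ q) := by
      have hdm := C.conj_diagonal_mem hm (show C.R.torus (τ b) ∈ D.diagonalSubgroup K by
        rw [C.diagonalSubgroup_eq]; exact ⟨_, rfl⟩)
      rw [C.diagonalSubgroup_eq] at hdm
      obtain ⟨b', hb'⟩ := hdm
      rw [← hb', torus_eq_iff C, coords_pow, hτ b hb.1, ← hb.2.2]
      refine chi_ext fun v => ?_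
      have := torusChar_conj C hm hmw hb'.symm (W.mulVec v)
      rw [Matrix.mulVec_mulVec, hWw, Matrix.one_mulVec, torusChar_eq_chi C, torusChar_eq_chi C,
        hτ b hb.1, chi_mulVec] at this
      exact this
    have hvc : C.R.torus ((τ b) ^ q) * v = v * C.R.torus ((τ b) ^ q) :=
      commute_of_commute C (fun x => c x ^ q) hv (fun x => (hdata x).2.1) fun s hs => by
        rw [e]; exact hroot _ hbq s (hpowroot s hs)
    have huc : C.R.torus (τ b) * u = u * C.R.torus (τ b) :=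
      commute_of_commute C c (by
        rw [C.posUnipotent_eq]
        exact C.Ucl_le (fun r hr t => C.xGL_mem_Ucl (C.hR.mem_invSet.1 hr.2).1 t) hu)
        (fun x => (hdata x).2.2) (hroot b hb)
    have hc₀ : C.R.torus c₀ * C.R.torus ((τ b) ^ q) = C.R.torus ((τ b) ^ q) * C.R.torus c₀ := by
      rw [← map_mul, ← map_mul, mul_comm]
    have hnb : n * C.R.torus (τ b) * n⁻¹ = C.R.torus ((τ b) ^ q) := by
      rw [hnf, show v * C.R.torus c₀ * m * u * C.R.torus (τ b) =
        v * C.R.torus c₀ * m * (u * C.R.torus (τ b)) by group, ← huc]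
      rw [show v * C.R.torus c₀ * m * (C.R.torus (τ b) * u) * (v * C.R.torus c₀ * m * u)⁻¹ =
        v * (C.R.torus c₀ * (m * C.R.torus (τ b) * m⁻¹)) * (C.R.torus c₀)⁻¹ * v⁻¹ by group, hmt, hc₀,
        ← mul_assoc, mul_inv_cancel_right, ← hvc, mul_inv_cancel_right]
    rw [map_mul, map_mul, map_inv, hσt, ← hnb, hn]
    group
  have hmemF : ∀ b : A, gg⁻¹ * C.R.torus (τ b.1) * gg ∈ (D.group F).map (mapGL ι) := by
    intro b
    refine mem_map_of_coprime C σ ι hfix N hN
      (mul_mem (mul_mem (inv_mem g₀.2) (C.borel_le_group (C.torus_mem_borel _))) g₀.2) (hfixed _ b.2) ?_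
    have h1 : (gg⁻¹ * C.R.torus (τ b.1) * gg) ^ r ^ j = 1 := by
      have e : ((gg⁻¹ * C.R.torus (τ b.1) * gg⁻¹⁻¹) ^ r ^ j) = 1 := by
        rw [conj_pow, ← map_pow, ← map_pow, b.2.1, map_one, map_one]
        group
      rwa [inv_inv] at e
    exact Nat.Coprime.coprime_dvd_left (orderOf_dvd_iff_pow_eq_one.2 h1)
      (Nat.Coprime.pow_left j (hr.coprime_iff_not_dvd.2 hrg))
  choose y hyF hy using hmemF
  let Φ : A →* ↥(D.group F) := MonoidHom.mk' (fun b => ⟨y b, hyF b⟩) fun b b' => by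
    refine Subtype.ext (mapGL_injective ι ?_)
    rw [Subgroup.coe_mul, map_mul, hy, hy, hy, Subgroup.coe_mul, map_mul, map_mul]
    group
  have hΦinj : Function.Injective Φ := by
    intro b b' e
    have h1 := congrArg (fun t : ↥(D.group F) => mapGL ι (t : GL D.Idx F)) e
    change mapGL ι (y b) = mapGL ι (y b') at h1
    rw [hy, hy, mul_left_inj, mul_right_inj, torus_eq_iff C, hτ _ b.2.1, hτ _ b'.2.1] at h1
    exact Subtype.ext h1
  have hle : (P : Subgroup ↥(D.group F)) ≤ Φ.range := by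
    intro x hx
    refine ⟨⟨f ⟨x, hx⟩, hfA _⟩, Subtype.ext (mapGL_injective ι ?_)⟩
    show mapGL ι (y ⟨f ⟨x, hx⟩, hfA _⟩) = mapGL ι (x : GL D.Idx F)
    rw [hy, (torus_eq_iff C).2 (hτ _ (hfm ⟨x, hx⟩) : coords (τ (f ⟨x, hx⟩)) = coords (c ⟨x, hx⟩)), hc']
    group
  have hrange : Φ.range = (P : Subgroup ↥(D.group F)) := by
    refine P.is_maximal' ?_ hle
    rintro ⟨_, b, rfl⟩
    exact ⟨j, Subtype.ext (show Φ b ^ r ^ j = 1 by rw [← map_pow, show b ^ r ^ j = 1 from Subtype.ext b.2.1, map_one])⟩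
  let eA : A ≃* (P : Subgroup ↥(D.group F)) :=
    (MonoidHom.ofInjective hΦinj).trans (MulEquiv.subgroupCongr hrange)
  have hcardW : ∀ u ∈ C.hR.weyl, orderOf u ∣ Nat.card C.hR.weyl := fun u hu => by
    simpa using orderOf_dvd_natCard (⟨u, hu⟩ : C.hR.weyl)
  have : Finite C.hR.weyl := inferInstance
  have := Fintype.ofFinite (fixator C f)
  have hrS : ¬ r ∣ Fintype.card (fixator C f) := fun h => hrW (by
    rw [← Nat.card_eq_fintype_card] at h
    exact h.trans (Subgroup.card_subgroup_dvd_card _))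
  have hro : ¬ r ∣ orderOf w⁻¹ := fun h => hrW (h.trans (hcardW _ (inv_mem hw)))
  have hWo : W ^ orderOf w⁻¹ = 1 := by
    rw [hWdef, ← wMat_pow C.hR (inv_mem hw), pow_orderOf_eq_one, wMat_one C.hR]
  have hqo : q ^ orderOf w⁻¹ ≡ 1 [MOD r ^ j] := by
    refine hsplit _ ?_
    have := Finite.one_lt_card_iff_nontrivial.1 hP
    obtain ⟨x, hx1⟩ := exists_ne (1 : (P : Subgroup ↥(D.group F)))
    have hfx : f x ≠ 1 := by
      intro h
      apply hx1
      have e : C.R.torus (c x) = C.R.torus 1 :=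
        (torus_eq_iff C).2 (h.trans (map_one (monHom (cartanMat D))).symm)
      rw [map_one, hc', conj_eq_one_iff] at e
      exact Subtype.ext (Subtype.ext (mapGL_injective ι (e.trans (map_one _).symm)))
    have hpow : ∀ i, monMap (W ^ i)ᵀ (f x) = f x ^ q ^ i := by
      intro i
      induction i with
      | zero => rw [pow_zero, pow_zero, pow_one, monMap_transpose_one]
      | succ i ih => rw [pow_succ, ← monMap_transpose_mul, ih, monMap_pow, hfW, ← pow_mul, pow_succ' q]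
    have h1 := hpow (orderOf w⁻¹)
    rw [hWo, monMap_transpose_one] at h1
    have h2 : q ^ orderOf w⁻¹ ≡ 1 [MOD orderOf (f x)] :=
      (pow_eq_pow_iff_modEq (x := f x)).1 (by rw [← h1, pow_one])
    refine h2.of_dvd ?_
    obtain ⟨t, -, ht⟩ := (Nat.dvd_prime_pow hr).1 (orderOf_dvd_iff_pow_eq_one.2 (hfm x))
    rw [ht]
    refine dvd_pow_self r fun e => hfx ?_
    rw [← orderOf_eq_one_iff, ht, e, pow_zero]
  have hnorm : ∀ u : fixator C f, ∀ i : ℕ, ∃ u', W ^ i * ρ u = ρ u' * W ^ i := by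
    intro u i
    induction i with
    | zero => exact ⟨u, by rw [pow_zero, one_mul, mul_one]⟩
    | succ i ih =>
      obtain ⟨u', hu'⟩ := ih
      have hmem : w⁻¹ * u'.1.1 * w ∈ C.hR.weyl := mul_mem (mul_mem (inv_mem hw) u'.1.2) hw
      refine ⟨⟨⟨_, hmem⟩, fun x => ?_⟩, ?_⟩
      · show monMap (wMat C.R (w⁻¹ * u'.1.1 * w))ᵀ (f x) = f x
        rw [wMat_mul C.hR (mul_mem (inv_mem hw) u'.1.2), wMat_mul C.hR (inv_mem hw),
          ← monMap_transpose_mul, ← monMap_transpose_mul, ← hWdef, hfW, monMap_pow, u'.2 x, hfw]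
      · show W ^ (i + 1) * ρ u = wMat C.R (w⁻¹ * u'.1.1 * w) * W ^ (i + 1)
        rw [pow_succ', mul_assoc, hu', wMat_mul C.hR (mul_mem (inv_mem hw) u'.1.2),
          wMat_mul C.hR (inv_mem hw), ← hWdef]
        simp only [mul_assoc]
        rw [← mul_assoc (wMat C.R w) W, hWw, one_mul]
  obtain ⟨e, ⟨ψ⟩⟩ := exists_homocyclic (A := A) hr hj (fun x => Subtype.ext x.2.1)
    (fun x hx => twisted_root hr hj hdvd ρ (fun a b => wMat_mul C.hR a.1.2) hrS hro hWo hqo hnorm x hx)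
  exact ⟨e, ⟨eA.symm.trans ψ⟩⟩

end CfsgLib.CycTorus
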