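import Cfsg.Agent.Lib.CycTorus.Main
import Cfsg.Agent.Lib.ChevStr.Orders
import Cfsg.Agent.Lib.PSL2.Subfield

/-!
The cyclotomic tori over a finite field, obtained by passing to the extension of degree `d`.
-/

set_option autoImplicit false

namespace CfsgLib.CycTorus

open Cfsg.Lie CfsgLib.ChevStr CfsgLib.ChevField Matrix Polynomial

theorem cyclotomic_eight : cyclotomic 8 ℤ = X ^ 4 + 1 := by
  have h := cyclotomic_expand_eq_cyclotomic (p := 2) (n := 4) Nat.prime_two (by norm_num) ℤ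
  have h4 := cyclotomic_expand_eq_cyclotomic (p := 2) (n := 2) Nat.prime_two (by norm_num) ℤ
  rw [cyclotomic_two] at h4
  rw [← h, ← h4]
  simp [← pow_mul]

theorem cyclotomic_fifteen :
    cyclotomic 15 ℤ = X ^ 8 - X ^ 7 + X ^ 5 - X ^ 4 + X ^ 3 - X + 1 := by
  have h := cyclotomic_expand_eq_cyclotomic_mul (p := 5) (n := 3) (by norm_num) (by norm_num) ℤ
  rw [cyclotomic_three] at h
  simp only [map_add, map_pow, expand_X, map_one] at h
  refine mul_right_cancel₀ (b := (X ^ 2 + X + 1 : ℤ[X])) ?_ ?_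
  · rw [← cyclotomic_three]; exact cyclotomic_ne_zero 3 ℤ
  · rw [show (3 * 5 : ℕ) = 15 from rfl] at h
    rw [← h]; ring

theorem cyclotomic_thirty :
    cyclotomic 30 ℤ = X ^ 8 + X ^ 7 - X ^ 5 - X ^ 4 - X ^ 3 + X + 1 := by
  have h := cyclotomic_expand_eq_cyclotomic_mul (p := 2) (n := 15) Nat.prime_two (by norm_num) ℤ
  rw [cyclotomic_fifteen] at h
  simp only [map_add, map_sub, map_pow, expand_X, map_one] at h
  refine mul_right_cancel₀ (b := (X ^ 8 - X ^ 7 + X ^ 5 - X ^ 4 + X ^ 3 - X + 1 : ℤ[X])) ?_ ?_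
  · rw [← cyclotomic_fifteen]; exact cyclotomic_ne_zero 15 ℤ
  · rw [show (15 * 2 : ℕ) = 30 from rfl] at h
    rw [← h]; ring

/-- A value of `Φ_d` above `d` has a prime factor not dividing `d`. -/
theorem exists_prime_factor {d q : ℕ} (hd : 0 < d) (hlt : (d : ℤ) < (cyclotomic d ℤ).eval (q : ℤ))
    (hsmall : ∀ ℓ ∈ d.primeFactors, ∀ b : ZMod (ℓ ^ 2),
      (cyclotomic d (ZMod (ℓ ^ 2))).eval b ≠ 0) :
    ∃ r : ℕ, r.Prime ∧ ¬ r ∣ d ∧ (r : ℤ) ∣ (cyclotomic d ℤ).eval (q : ℤ) := by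
  classical
  obtain ⟨m, hm⟩ := Int.eq_ofNat_of_zero_le (le_trans (by positivity) hlt.le)
  rw [hm] at hlt ⊢
  by_contra hcon
  have hsq : ∀ ℓ ∈ d.primeFactors, ¬ ℓ ^ 2 ∣ m := by
    intro ℓ hℓ hdvd
    refine hsmall ℓ hℓ ((q : ℤ) : ZMod (ℓ ^ 2)) ?_
    rw [← map_cyclotomic d (Int.castRingHom (ZMod (ℓ ^ 2))), Polynomial.eval_intCast_map, eq_intCast,
      ZMod.intCast_zmod_eq_zero_iff_dvd, Int.cast_id, hm]
    exact_mod_cast hdvd
  have hm0 : m ≠ 0 := by rintro rfl; omega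
  have hsub : ∀ r : ℕ, r.Prime → r ∣ m → r ∣ d := by
    intro r hr hrm
    by_contra hrd
    exact hcon ⟨r, hr, hrd, by exact_mod_cast hrm⟩
  have hdvd : m ∣ d := by
    rw [Nat.dvd_iff_prime_pow_dvd_dvd]
    intro p k hp hk
    rcases Nat.lt_or_ge k 2 with h | h
    · interval_cases k
      · simp
      · rw [pow_one] at hk ⊢; exact hsub p hp hk
    · have hp' : p ∈ d.primeFactors :=
        Nat.mem_primeFactors.2 ⟨hp, hsub p hp ((dvd_pow_self p (by omega)).trans hk), hd.ne'⟩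
      exact absurd ((pow_dvd_pow p h).trans hk) (hsq p hp')
  have := Nat.le_of_dvd hd hdvd
  omega

universe u

variable {D : ChevalleyDatum}

/-- A cyclic self-centralising torus of order `Φ_d(q)`. -/
theorem exists_self_centralizing (core : ∀ (K : Type) [Field K], ChevCore D K)
    (N : Fin D.rank → Fin D.rank → ℤ)
    (hN : ∀ i k : Fin D.rank,
      ∑ j, N i j * D.cartan k.val (D.simple j.val) = if k = i then 1 else 0)
    {d : ℕ} (hd : 0 < d) (hl : d.totient = D.rank) {N₀ : ℕ} (degs : List ℕ)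
    (hlen : degs.length = D.rank) {e : ℕ} (he : e ∈ degs) (hde : d ∣ e)
    (hcard : ∀ (K : Type) [Field K] [Fintype K],
      Nat.card (D.group K) = Fintype.card K ^ N₀ * (degs.map fun i => Fintype.card K ^ i - 1).prod)
    (hW : ∀ (K : Type) [Field K], ∀ r : ℕ, r.Prime → d ∣ r - 1 → ¬ r ∣ Nat.card (core K).hR.weyl)
    (hdegW : ∀ (K : Type) [Field K], ∀ i ∈ degs, i ∣ Nat.card (core K).hR.weyl)
    (hsmall : ∀ ℓ ∈ d.primeFactors, ∀ b : ZMod (ℓ ^ 2),
      (cyclotomic d (ZMod (ℓ ^ 2))).eval b ≠ 0)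
    {F : Type u} [Field F] [Fintype F] {q : ℕ} (hq : Fintype.card F = q)
    (hcardF : Nat.card (D.group F) = q ^ N₀ * (degs.map fun i => q ^ i - 1).prod)
    (hlt : (d : ℤ) < (cyclotomic d ℤ).eval (q : ℤ)) :
    ∃ H : Subgroup ↥(D.group F), IsCyclic H ∧
      (Nat.card H : ℤ) = (cyclotomic d ℤ).eval (q : ℤ) ∧
      Subgroup.centralizer (H : Set ↥(D.group F)) = H := by
  classical
  obtain ⟨p, hpF⟩ := CharP.exists F
  have : Fact p.Prime := ⟨CharP.char_is_prime F p⟩
  obtain ⟨f, -, hf⟩ := FiniteField.card F p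
  let K := GaloisField p (f * d)
  have : Fintype K := Fintype.ofFinite K
  have hK : Fintype.card K = q ^ d := by
    rw [← Nat.card_eq_fintype_card, GaloisField.card p _ (Nat.mul_ne_zero f.ne_zero hd.ne'), ← hq,
      hf, pow_mul]
  obtain ⟨ι⟩ := CfsgLib.PSL2.exists_fieldHom (F := K) (K := F) (m := d) (by rw [hK, hq])
  let σh : K →+* K := iterateFrobenius K p f
  have hσ : ∀ x : K, σh x = x ^ q := fun x => by
    rw [← hq, hf]; exact iterateFrobenius_def p f x
  let σ : K ≃+* K := RingEquiv.ofBijective σh (Finite.injective_iff_bijective.1 σh.injective)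
  have hfix : ∀ x, σ x = x → ∃ a, ι a = x := by
    intro x hx
    have hx' : x ^ q = x := (hσ x).symm.trans hx
    have hq1 : 1 < q := hq ▸ Fintype.one_lt_card
    have hne : (X ^ q - X : K[X]) ≠ 0 := FiniteField.X_pow_card_sub_X_ne_zero K hq1
    have hroots : ∀ y : K, y ^ q = y → y ∈ (X ^ q - X : K[X]).roots.toFinset := fun y hy => by
      rw [Multiset.mem_toFinset, mem_roots hne]
      simp [hy]
    have himg : Finset.univ.image ι = (X ^ q - X : K[X]).roots.toFinset := by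
      refine Finset.eq_of_subset_of_card_le (fun y hy => ?_) ?_
      · obtain ⟨a, -, rfl⟩ := Finset.mem_image.1 hy
        exact hroots _ (by rw [← map_pow, ← hq, FiniteField.pow_card])
      · rw [Finset.card_image_of_injective _ ι.injective, Finset.card_univ, hq]
        refine (Multiset.toFinset_card_le _).trans ((card_roots' _).trans ?_)
        rw [FiniteField.X_pow_card_sub_X_natDegree_eq K hq1]
    have := himg.symm ▸ hroots x hx'
    obtain ⟨a, -, ha⟩ := Finset.mem_image.1 this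
    exact ⟨a, ha⟩
  refine exists_torus (core K) ι σ hq hσ hfix hd hl hK N hN (N₀ := N₀) degs hlen ?_ ?_ (hW K) (hdegW K)
    (exists_prime_factor hd hlt hsmall) hsmall
  · rw [hcard K, hK]
  · intro r hr hrd
    rw [hcardF]
    refine Dvd.dvd.mul_left (hrd.trans ((Nat.pow_sub_one_dvd_pow_sub_one q hde).trans ?_)) _
    exact List.dvd_prod (List.mem_map.2 ⟨e, he, rfl⟩)

end CfsgLib.CycTorus
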