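import Cfsg.Agent.Lib.CycTorus.Homocyclic
import Cfsg.Agent.Lib.CycTorus.Instance

/-!
Sylow subgroups for primes prime to the order of the Weyl group: exponent and rank.
-/

set_option autoImplicit false

namespace CfsgLib.CycTorus

open Cfsg.Lie CfsgLib.ChevStr CfsgLib.ChevField Polynomial

/-- The part of `∏ (q ^ e - 1)` at a prime not dividing the exponents. -/
theorem exists_prod_order {r q d : ℕ} (hr : r.Prime) (hq : 1 ≤ q)
    (hord : orderOf ((q : ℕ) : ZMod r) = d) :
    ∀ degs : List ℕ, (∀ e ∈ degs, ¬ r ∣ e) →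
      ∃ g, (degs.map fun e => q ^ e - 1).prod =
        (q ^ d - 1) ^ (degs.filter fun e => d ∣ e).length * g ∧ ¬ r ∣ g := by
  have hiff : ∀ e, r ∣ q ^ e - 1 ↔ d ∣ e := fun e => by
    rw [← hord, orderOf_dvd_iff_pow_eq_one, ← ZMod.natCast_eq_zero_iff,
      Nat.cast_sub (Nat.one_le_pow _ _ hq), Nat.cast_pow, Nat.cast_one, sub_eq_zero]
  intro degs
  induction degs with
  | nil => exact fun _ => ⟨1, by simp, hr.not_dvd_one⟩
  | cons e L ih =>
    intro h
    obtain ⟨g, hg, hgr⟩ := ih fun a ha => h a (List.mem_cons_of_mem _ ha)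
    by_cases he : d ∣ e
    · obtain ⟨s, rfl⟩ := he
      obtain ⟨g', hg', hmod⟩ := exists_geom (r := r) (Q := q ^ d) (Nat.one_le_pow _ _ hq)
        ((hiff d).2 dvd_rfl) s
      refine ⟨g' * g, ?_, ?_⟩
      · rw [List.map_cons, List.prod_cons, hg, pow_mul, hg', List.filter_cons_of_pos (by simp),
          List.length_cons, pow_succ]
        ring
      · rw [hr.dvd_mul, not_or]
        refine ⟨fun hd => h _ (List.mem_cons_self ..) (Dvd.dvd.mul_left ?_ d), hgr⟩
        exact Nat.modEq_zero_iff_dvd.1 (hmod.symm.trans (Nat.modEq_zero_iff_dvd.2 hd))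
    · refine ⟨(q ^ e - 1) * g, ?_, ?_⟩
      · rw [List.map_cons, List.prod_cons, hg, List.filter_cons_of_neg (by simpa using he)]
        ring
      · rw [hr.dvd_mul, not_or]
        exact ⟨fun hd => he ((hiff e).1 hd), hgr⟩

/-- `Φ_d(q)` and `q ^ d - 1` have the same part at a prime of which `q` has order `d`. -/
theorem padicValNat_cyclotomic {r q d : ℕ} [Fact r.Prime] (hd : 0 < d) (hq : 2 ≤ q)
    (hord : orderOf ((q : ℕ) : ZMod r) = d) :
    padicValNat r ((cyclotomic d ℤ).eval (q : ℤ)).natAbs = padicValNat r (q ^ d - 1) := by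
  classical
  have hr : r.Prime := Fact.out
  have hmem : d ∈ d.divisors := Nat.mem_divisors.2 ⟨dvd_rfl, hd.ne'⟩
  set R := ∏ e ∈ d.divisors.erase d, (cyclotomic e ℤ).eval (q : ℤ) with hR
  have hprod : (cyclotomic d ℤ).eval (q : ℤ) * R = ((q ^ d - 1 : ℕ) : ℤ) := by
    rw [hR, Finset.mul_prod_erase _ (fun e => (cyclotomic e ℤ).eval (q : ℤ)) hmem, ← eval_prod,
      prod_cyclotomic_eq_X_pow_sub_one hd, Nat.cast_sub (Nat.one_le_pow _ _ (by omega))]
    simp
  have hRr : ¬ (r : ℤ) ∣ R := by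
    rw [hR, (Nat.prime_iff_prime_int.1 hr).dvd_finsetProd_iff]
    rintro ⟨e, he, h⟩
    obtain ⟨hne, he⟩ := Finset.mem_erase.1 he
    have hed := Nat.dvd_of_mem_divisors he
    have hrd : ¬ r ∣ d := fun hrd => by
      have h0 : ((q : ℕ) : ZMod r) ≠ 0 := fun h0 => by
        rw [h0, orderOf_zero] at hord; omega
      have h1 := ZMod.orderOf_dvd_card_sub_one h0
      rw [hord] at h1
      have h2 := Nat.le_of_dvd (by have := hr.two_le; omega) (hrd.trans h1)
      have := hr.two_le
      omega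
    have : NeZero ((e : ℕ) : ZMod r) := ⟨by
      rw [Ne, ZMod.natCast_eq_zero_iff]; exact fun h' => hrd (h'.trans hed)⟩
    have h0 : (cyclotomic e (ZMod r)).IsRoot ((q : ℕ) : ZMod r) := by
      rw [Polynomial.IsRoot.def, ← map_cyclotomic e (Int.castRingHom (ZMod r)), ← Int.cast_natCast q,
        Polynomial.eval_intCast_map, eq_intCast, ZMod.intCast_zmod_eq_zero_iff_dvd]
      simpa using h
    rw [isRoot_cyclotomic_iff] at h0
    exact hne (h0.eq_orderOf.trans hord)
  have hnat := congrArg Int.natAbs hprod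
  rw [Int.natAbs_mul, Int.natAbs_natCast] at hnat
  have hqd : 1 < q ^ d := Nat.one_lt_pow hd.ne' (by omega)
  have h0 : ((cyclotomic d ℤ).eval (q : ℤ)).natAbs * R.natAbs ≠ 0 := by rw [hnat]; omega
  rw [← hnat, padicValNat.mul (left_ne_zero_of_mul h0) (right_ne_zero_of_mul h0),
    padicValNat.eq_zero_of_not_dvd (fun h => hRr (Int.natCast_dvd.2 h)), add_zero]

universe u

variable {D : ChevalleyDatum}

/-- Sylow subgroups for primes prime to the characteristic and the Weyl group are homocyclic. -/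
theorem sylow_homocyclic (core : ∀ (K : Type) [Field K], ChevCore D K) (degs : List ℕ)
    (hlen : degs.length = D.rank) (h2 : 2 ∣ degs.prod) {g : ℕ} (hg : g ∣ degs.prod)
    (N : Matrix (Fin D.rank) (Fin D.rank) ℤ) (hN : N * cartanMat D = (g : ℤ) • 1)
    (hN' : cartanMat D * N = (g : ℤ) • 1) {N₀ : ℕ}
    (hW : ∀ (K : Type) [Field K], Nat.card (core K).hR.weyl = degs.prod)
    (hcard : ∀ (K : Type) [Field K] [Fintype K], ∃ k,
      k * Nat.card (D.group K) = Fintype.card K ^ N₀ * (degs.map fun i => Fintype.card K ^ i - 1).prod ∧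
      k * Nat.card (D.diagonalSubgroup K) = (Fintype.card K - 1) ^ D.rank)
    {F : Type u} [Field F] [Fintype F] {q : ℕ} (hq : Fintype.card F = q)
    (hcardF : ∃ k, k ∣ degs.prod ∧
      k * Nat.card (D.group F) = q ^ N₀ * (degs.map fun i => q ^ i - 1).prod)
    (r : ℕ) [Fact r.Prime] (hrq : ¬ r ∣ q) (hrW : ¬ r ∣ degs.prod)
    (hrG : r ∣ Nat.card (D.group F)) (P : Sylow r ↥(D.group F)) :
    Nonempty (↥(P : Subgroup ↥(D.group F)) ≃*
      (Fin (degs.filter (fun e => orderOf (q : ZMod r) ∣ e)).length →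
        Multiplicative (ZMod (r ^ padicValNat r
          ((cyclotomic (orderOf (q : ZMod r)) ℤ).eval (q : ℤ)).natAbs)))) := by
  classical
  have hr : r.Prime := Fact.out
  have hq2 : 2 ≤ q := hq ▸ Fintype.one_lt_card
  set d := orderOf (q : ZMod r) with hd'
  have hq0 : (q : ZMod r) ≠ 0 := fun h => hrq ((ZMod.natCast_eq_zero_iff _ _).1 h)
  have hd : 0 < d := Nat.pos_of_dvd_of_pos (ZMod.orderOf_dvd_card_sub_one hq0) (by have := hr.two_le; omega)
  set j := padicValNat r (q ^ d - 1) with hjdef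
  rw [padicValNat_cyclotomic hd hq2 hd'.symm, ← hjdef]
  set a := (degs.filter fun e => d ∣ e).length with hadef
  have hqd : 1 < q ^ d := Nat.one_lt_pow hd.ne' (by omega)
  have hiff : ∀ o, q ^ o ≡ 1 [MOD r] ↔ d ∣ o := fun o => by
    rw [hd', orderOf_dvd_iff_pow_eq_one, ← ZMod.natCast_eq_natCast_iff, Nat.cast_pow, Nat.cast_one]
  have hrd : r ∣ q ^ d - 1 := (Nat.modEq_iff_dvd' hqd.le).1 ((hiff d).2 dvd_rfl).symm
  have hj : 0 < j := one_le_padicValNat_of_dvd (by omega) hrd
  have hdeg : ∀ e ∈ degs, ¬ r ∣ e := fun e he h => hrW (h.trans (List.dvd_prod he))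
  -- the order of the Sylow subgroup
  obtain ⟨k, hk, hkF⟩ := hcardF
  obtain ⟨g', hg', hrg'⟩ := exists_prod_order hr (by omega) hd'.symm degs hdeg
  rw [hg', ← hadef] at hkF
  obtain ⟨h, hh, hrh⟩ : ∃ h, q ^ d - 1 = r ^ j * h ∧ ¬ r ∣ h := by
    obtain ⟨h, hh⟩ := pow_padicValNat_dvd (p := r) (n := q ^ d - 1)
    refine ⟨h, hh, fun hd => pow_succ_padicValNat_not_dvd (p := r) (n := q ^ d - 1) (by omega) ?_⟩
    obtain ⟨c, hc⟩ := hd
    exact ⟨c, hh.trans (by rw [hc, pow_succ]; ring)⟩
  have hcardG : ∃ c, Nat.card (D.group F) = r ^ (j * a) * c ∧ ¬ r ∣ c := by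
    rw [hh, mul_pow, ← pow_mul] at hkF
    have hdvd : r ^ (j * a) ∣ Nat.card (D.group F) :=
      (Nat.Coprime.pow_left (j * a) (hr.coprime_iff_not_dvd.2 fun h => hrW (h.trans hk))).dvd_of_dvd_mul_left
        ⟨q ^ N₀ * (h ^ a * g'), by rw [hkF]; ring⟩
    obtain ⟨c, hc⟩ := hdvd
    refine ⟨c, hc, fun hrc => ?_⟩
    have e : r ^ (j * a) * (k * c) = r ^ (j * a) * (q ^ N₀ * (h ^ a * g')) := by
      rw [← mul_assoc, mul_comm (r ^ (j * a)) k, mul_assoc, ← hc, hkF]; ring
    have e' : r ∣ q ^ N₀ * (h ^ a * g') :=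
      Nat.eq_of_mul_eq_mul_left (pow_pos hr.pos _) e ▸ Dvd.dvd.mul_left hrc k
    rcases hr.dvd_mul.1 e' with e1 | e1
    · exact hrq (hr.dvd_of_dvd_pow e1)
    · rcases hr.dvd_mul.1 e1 with e2 | e2
      · exact hrh (hr.dvd_of_dvd_pow e2)
      · exact hrg' e2
  obtain ⟨c, hc, hrc⟩ := hcardG
  have hP : Nat.card (P : Subgroup ↥(D.group F)) = r ^ (j * a) := by
    rw [Sylow.card_eq_multiplicity, hc]
    congr 1
    rw [Nat.factorization_mul (pow_pos hr.pos _).ne' (by rintro rfl; exact hrc (dvd_zero r)),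
      Finsupp.add_apply, Nat.factorization_pow, Finsupp.smul_apply, hr.factorization_self,
      Nat.factorization_eq_zero_of_not_dvd hrc, smul_eq_mul, mul_one, add_zero]
  have hP1 : 1 < Nat.card (P : Subgroup ↥(D.group F)) := by
    rw [hP]
    refine Nat.one_lt_pow (fun e => hrc ?_) hr.one_lt
    rw [hc, e, pow_zero, one_mul] at hrG
    exact hrG
  -- the extension of degree `d`
  obtain ⟨p, hpF⟩ := CharP.exists F
  have : Fact p.Prime := ⟨CharP.char_is_prime F p⟩
  obtain ⟨f, -, hf⟩ := FiniteField.card F p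
  let K := GaloisField p (f * d)
  have : Fintype K := Fintype.ofFinite K
  have hK : Fintype.card K = q ^ d := by
    rw [← Nat.card_eq_fintype_card, GaloisField.card p _ (Nat.mul_ne_zero f.ne_zero hd.ne'), ← hq,
      hf, pow_mul]
  obtain ⟨ι⟩ := CfsgLib.PSL2.exists_fieldHom (F := K) (K := F) (m := d) (by rw [hK, hq])
  let σh : K →+* K := iterateFrobenius K p f
  have hσ : ∀ x : K, σh x = x ^ q := fun x => by
    rw [← hq, hf]; exact iterateFrobenius_def p f x
  let σ : K ≃+* K := RingEquiv.ofBijective σh (Finite.injective_iff_bijective.1 σh.injective)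
  have hfix : ∀ x, σ x = x → ∃ a, ι a = x := by
    intro x hx
    have hx' : x ^ q = x := (hσ x).symm.trans hx
    have hq1 : 1 < q := by omega
    have hne : (X ^ q - X : K[X]) ≠ 0 := FiniteField.X_pow_card_sub_X_ne_zero K hq1
    have hroots : ∀ y : K, y ^ q = y → y ∈ (X ^ q - X : K[X]).roots.toFinset := fun y hy => by
      rw [Multiset.mem_toFinset, mem_roots hne]
      simp [hy]
    have himg : Finset.univ.image ι = (X ^ q - X : K[X]).roots.toFinset := by
      refine Finset.eq_of_subset_of_card_le (fun y hy => ?_) ?_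
      · obtain ⟨a, -, rfl⟩ := Finset.mem_image.1 hy
        exact hroots _ (by rw [← map_pow, ← hq, FiniteField.pow_card])
      · rw [Finset.card_image_of_injective _ ι.injective, Finset.card_univ, hq]
        refine (Multiset.toFinset_card_le _).trans ((card_roots' _).trans ?_)
        rw [FiniteField.X_pow_card_sub_X_natDegree_eq K hq1]
    obtain ⟨a, -, ha⟩ := Finset.mem_image.1 (himg.symm ▸ hroots x hx')
    exact ⟨a, ha⟩
  have hidx : ¬ r ∣ (((core K).R.torus (F := K)).codRestrict (D.group K)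
      fun c => (core K).borel_le_group ((core K).torus_mem_borel c)).range.index := by
    set T := (((core K).R.torus (F := K)).codRestrict (D.group K)
      fun c => (core K).borel_le_group ((core K).torus_mem_borel c)).range with hT
    have hTd : Nat.card T = Nat.card (D.diagonalSubgroup K) := by
      have e : T.map (D.group K).subtype = D.diagonalSubgroup K := by
        rw [(core K).diagonalSubgroup_eq, hT, MonoidHom.map_range]
        rfl
      rw [← e, Subgroup.card_map_of_injective (D.group K).subtype_injective]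
    obtain ⟨k', hk1, hk2⟩ := hcard K
    obtain ⟨g₁, hg1, hgr1⟩ := exists_prod_geom (r := r) (Q := Fintype.card K) Fintype.card_pos hr
      (hK ▸ hrd) degs hdeg
    rw [hg1, hlen, ← hk2, ← hTd, ← T.card_mul_index] at hk1
    have hpos : 0 < k' * Nat.card T := by
      rw [hTd, hk2]
      exact pow_pos (by have := Fintype.one_lt_card (α := K); omega) _
    have h3 : T.index = Fintype.card K ^ N₀ * g₁ := by
      refine Nat.eq_of_mul_eq_mul_left hpos ?_
      rw [mul_assoc, hk1]; ring
    rw [h3, hr.dvd_mul, not_or, hK]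
    exact ⟨fun h => hrq (hr.dvd_of_dvd_pow (hr.dvd_of_dvd_pow h)), hgr1⟩
  obtain ⟨e, ⟨φ⟩⟩ := exists_sylow_equiv (core K) ι σ hq hσ hfix (r := r)
    (fun e => hrW (e ▸ h2)) hj (by rw [hK]; exact pow_padicValNat_dvd)
    (by rw [hK]; exact pow_succ_padicValNat_not_dvd (by omega))
    (fun o ho => by
      refine ((Nat.modEq_iff_dvd' (Nat.one_le_pow _ _ (by omega))).2 ?_).symm
      exact (pow_padicValNat_dvd (p := r)).trans (Nat.pow_sub_one_dvd_pow_sub_one q ((hiff o).1 ho)))
    (fun h => hrW (h.trans hg)) N hN hN' (by rw [hW]; exact hrW) hidx P hP1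
  have he : e = a := by
    have h1 := Nat.card_congr φ.toEquiv
    rw [hP, Nat.card_fun, Nat.card_fin, show Nat.card (Multiplicative (ZMod (r ^ j))) = r ^ j from
      Nat.card_zmod _, ← pow_mul] at h1
    exact (Nat.eq_of_mul_eq_mul_left hj (Nat.pow_right_injective hr.two_le h1)).symm
  subst he
  exact ⟨φ⟩

end CfsgLib.CycTorus
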