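import Cfsg.Agent.Lib.CycTorus.SylowOrder
import Cfsg.Agent.Lib.Coxeter.FiniteOrders
import Cfsg.Agent.Lib.ChevStr.Orders

/-!
Sylow subgroups for primes prime to the Weyl group, for the seven tabulated types.
-/

set_option autoImplicit false

namespace CfsgLib.CycTorus

open Cfsg.Lie CfsgLib.ChevStr Polynomial

universe u

variable {F : Type u} [Field F] [Fintype F] {q : ℕ}

/-- The conclusion on the Sylow subgroups for the degrees `degs`. -/
abbrev SylowConcl (D : ChevalleyDatum) (degs : List ℕ) (F : Type u) [Field F] (q : ℕ) : Prop :=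
  ∀ (r : ℕ) [Fact r.Prime], ¬ r ∣ q → ¬ r ∣ degs.prod → r ∣ Nat.card (D.group F) →
    ∀ P : Sylow r ↥(D.group F), Nonempty (↥(P : Subgroup ↥(D.group F)) ≃*
      (Fin (degs.filter (fun e => orderOf (q : ZMod r) ∣ e)).length →
        Multiplicative (ZMod (r ^ padicValNat r
          ((cyclotomic (orderOf (q : ZMod r)) ℤ).eval (q : ℤ)).natAbs))))

/-- Type G2: an integral inverse of the Cartan matrix up to a factor. -/
def invMatG2 : Matrix (Fin chevG2.rank) (Fin chevG2.rank) ℤ := Matrix.of fun i j =>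
  tableEnt [[2, 1], [3, 2]] i.val j.val

theorem invMatG2_mul : ∀ i k : Fin chevG2.rank,
    (invMatG2 * cartanMat chevG2) i k = ((((1 : ℕ)) : ℤ) • (1 : Matrix _ _ ℤ)) i k ∧
      (cartanMat chevG2 * invMatG2) i k = ((((1 : ℕ)) : ℤ) • (1 : Matrix _ _ ℤ)) i k := by
  decide +kernel

theorem sylow_homocyclicG2 (hq : Fintype.card F = q) : SylowConcl chevG2 [2, 6] F q := by
  intro r _ hrq hrW hrG P
  refine sylow_homocyclic (fun K _ => coreG2 K) [2, 6] (by decide +kernel) (by norm_num)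
    (g := 1) (by norm_num) invMatG2 (Matrix.ext fun i k => (invMatG2_mul i k).1)
    (Matrix.ext fun i k => (invMatG2_mul i k).2) (N₀ := 6) (fun K _ => ?_) (fun K _ _ => ?_)
    hq ⟨1, ?_, ?_⟩ r hrq hrW hrG P
  · exact ((Nat.card_congr coxDataG2.equivWeyl.toEquiv).symm.trans
      CfsgLib.CoxeterFinite.g2_card).trans (by norm_num)
  · exact ⟨_, (coreG2 K).card_group_mul rfl (ncard_isPosRoot (by decide +kernel)) poincareG2
      (card_diagonalG2 K), card_diagonalG2 K⟩
  · exact one_dvd _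
  · rw [← hq]
    exact (coreG2 F).card_group_mul rfl (ncard_isPosRoot (by decide +kernel)) poincareG2
      (card_diagonalG2 F)

/-- Type B2: an integral inverse of the Cartan matrix up to a factor. -/
def invMatB2 : Matrix (Fin chevB2.rank) (Fin chevB2.rank) ℤ := Matrix.of fun i j =>
  tableEnt [[2, 1], [2, 2]] i.val j.val

theorem invMatB2_mul : ∀ i k : Fin chevB2.rank,
    (invMatB2 * cartanMat chevB2) i k = ((((2 : ℕ)) : ℤ) • (1 : Matrix _ _ ℤ)) i k ∧
      (cartanMat chevB2 * invMatB2) i k = ((((2 : ℕ)) : ℤ) • (1 : Matrix _ _ ℤ)) i k := by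
  decide +kernel

theorem sylow_homocyclicB2 (hq : Fintype.card F = q) : SylowConcl chevB2 [2, 4] F q := by
  intro r _ hrq hrW hrG P
  refine sylow_homocyclic (fun K _ => coreB2 K) [2, 4] (by decide +kernel) (by norm_num)
    (g := 2) (by norm_num) invMatB2 (Matrix.ext fun i k => (invMatB2_mul i k).1)
    (Matrix.ext fun i k => (invMatB2_mul i k).2) (N₀ := 4) (fun K _ => ?_) (fun K _ _ => ?_)
    hq ⟨Nat.gcd 2 (Fintype.card F - 1), ?_, ?_⟩ r hrq hrW hrG P
  · exact ((Nat.card_congr coxDataB2.equivWeyl.toEquiv).symm.trans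
      CfsgLib.CoxeterFinite.b2_card).trans (by norm_num)
  · exact ⟨_, (coreB2 K).card_group_mul rfl (ncard_isPosRoot (by decide +kernel)) poincareB2
      (card_diagonalB2 K), card_diagonalB2 K⟩
  · exact (Nat.gcd_dvd_left _ _).trans (by norm_num)
  · rw [← hq]
    exact (coreB2 F).card_group_mul rfl (ncard_isPosRoot (by decide +kernel)) poincareB2
      (card_diagonalB2 F)

/-- Type D4: an integral inverse of the Cartan matrix up to a factor. -/
def invMatD4 : Matrix (Fin chevD4.rank) (Fin chevD4.rank) ℤ := Matrix.of fun i j =>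
  tableEnt [[2, 2, 1, 1], [2, 4, 2, 2], [1, 2, 2, 1], [1, 2, 1, 2]] i.val j.val

theorem invMatD4_mul : ∀ i k : Fin chevD4.rank,
    (invMatD4 * cartanMat chevD4) i k = ((((2 : ℕ)) : ℤ) • (1 : Matrix _ _ ℤ)) i k ∧
      (cartanMat chevD4 * invMatD4) i k = ((((2 : ℕ)) : ℤ) • (1 : Matrix _ _ ℤ)) i k := by
  decide +kernel

theorem sylow_homocyclicD4 (hq : Fintype.card F = q) : SylowConcl chevD4 [2, 4, 4, 6] F q := by
  intro r _ hrq hrW hrG P
  refine sylow_homocyclic (fun K _ => coreD4 K) [2, 4, 4, 6] (by decide +kernel) (by norm_num)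
    (g := 2) (by norm_num) invMatD4 (Matrix.ext fun i k => (invMatD4_mul i k).1)
    (Matrix.ext fun i k => (invMatD4_mul i k).2) (N₀ := 12) (fun K _ => ?_) (fun K _ _ => ?_)
    hq ⟨Nat.gcd 2 (Fintype.card F - 1) ^ 2, ?_, ?_⟩ r hrq hrW hrG P
  · exact ((Nat.card_congr coxDataD4.equivWeyl.toEquiv).symm.trans
      CfsgLib.CoxeterFinite.d4_card).trans (by norm_num)
  · exact ⟨_, (coreD4 K).card_group_mul rfl (ncard_isPosRoot (by decide +kernel)) poincareD4
      (card_diagonalD4 K), card_diagonalD4 K⟩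
  · exact (pow_dvd_pow_of_dvd (Nat.gcd_dvd_left _ _) 2).trans (by norm_num)
  · rw [← hq]
    exact (coreD4 F).card_group_mul rfl (ncard_isPosRoot (by decide +kernel)) poincareD4
      (card_diagonalD4 F)

/-- Type F4: an integral inverse of the Cartan matrix up to a factor. -/
def invMatF4 : Matrix (Fin chevF4.rank) (Fin chevF4.rank) ℤ := Matrix.of fun i j =>
  tableEnt [[2, 3, 2, 1], [3, 6, 4, 2], [4, 8, 6, 3], [2, 4, 3, 2]] i.val j.val

theorem invMatF4_mul : ∀ i k : Fin chevF4.rank,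
    (invMatF4 * cartanMat chevF4) i k = ((((1 : ℕ)) : ℤ) • (1 : Matrix _ _ ℤ)) i k ∧
      (cartanMat chevF4 * invMatF4) i k = ((((1 : ℕ)) : ℤ) • (1 : Matrix _ _ ℤ)) i k := by
  decide +kernel

theorem sylow_homocyclicF4 (hq : Fintype.card F = q) : SylowConcl chevF4 [2, 6, 8, 12] F q := by
  intro r _ hrq hrW hrG P
  refine sylow_homocyclic (fun K _ => coreF4 K) [2, 6, 8, 12] (by decide +kernel) (by norm_num)
    (g := 1) (by norm_num) invMatF4 (Matrix.ext fun i k => (invMatF4_mul i k).1)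
    (Matrix.ext fun i k => (invMatF4_mul i k).2) (N₀ := 24) (fun K _ => ?_) (fun K _ _ => ?_)
    hq ⟨1, ?_, ?_⟩ r hrq hrW hrG P
  · exact ((Nat.card_congr coxDataF4.equivWeyl.toEquiv).symm.trans
      CfsgLib.CoxeterFinite.f4_card).trans (by norm_num)
  · exact ⟨_, (coreF4 K).card_group_mul rfl (ncard_isPosRoot (by decide +kernel)) poincareF4
      (card_diagonalF4 K), card_diagonalF4 K⟩
  · exact one_dvd _
  · rw [← hq]
    exact (coreF4 F).card_group_mul rfl (ncard_isPosRoot (by decide +kernel)) poincareF4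
      (card_diagonalF4 F)

/-- Type E6: an integral inverse of the Cartan matrix up to a factor. -/
def invMatE6 : Matrix (Fin chevE6.rank) (Fin chevE6.rank) ℤ := Matrix.of fun i j =>
  tableEnt [[4, 3, 5, 6, 4, 2], [3, 6, 6, 9, 6, 3], [5, 6, 10, 12, 8, 4], [6, 9, 12, 18, 12, 6], [4, 6, 8, 12, 10, 5], [2, 3, 4, 6, 5, 4]] i.val j.val

theorem invMatE6_mul : ∀ i k : Fin chevE6.rank,
    (invMatE6 * cartanMat chevE6) i k = ((((3 : ℕ)) : ℤ) • (1 : Matrix _ _ ℤ)) i k ∧
      (cartanMat chevE6 * invMatE6) i k = ((((3 : ℕ)) : ℤ) • (1 : Matrix _ _ ℤ)) i k := by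
  decide +kernel

theorem sylow_homocyclicE6 (hq : Fintype.card F = q) : SylowConcl chevE6 [2, 5, 6, 8, 9, 12] F q := by
  intro r _ hrq hrW hrG P
  refine sylow_homocyclic (fun K _ => coreE6 K) [2, 5, 6, 8, 9, 12] (by decide +kernel) (by norm_num)
    (g := 3) (by norm_num) invMatE6 (Matrix.ext fun i k => (invMatE6_mul i k).1)
    (Matrix.ext fun i k => (invMatE6_mul i k).2) (N₀ := 36) (fun K _ => ?_) (fun K _ _ => ?_)
    hq ⟨Nat.gcd 3 (Fintype.card F - 1), ?_, ?_⟩ r hrq hrW hrG P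
  · exact ((Nat.card_congr coxDataE6.equivWeyl.toEquiv).symm.trans
      CfsgLib.CoxeterFinite.e6_card).trans (by norm_num)
  · exact ⟨_, (coreE6 K).card_group_mul rfl (ncard_isPosRoot (by decide +kernel)) poincareE6
      (card_diagonalE6 K), card_diagonalE6 K⟩
  · exact (Nat.gcd_dvd_left _ _).trans (by norm_num)
  · rw [← hq]
    exact (coreE6 F).card_group_mul rfl (ncard_isPosRoot (by decide +kernel)) poincareE6
      (card_diagonalE6 F)

/-- Type E7: an integral inverse of the Cartan matrix up to a factor. -/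
def invMatE7 : Matrix (Fin chevE7.rank) (Fin chevE7.rank) ℤ := Matrix.of fun i j =>
  tableEnt [[4, 4, 6, 8, 6, 4, 2], [4, 7, 8, 12, 9, 6, 3], [6, 8, 12, 16, 12, 8, 4], [8, 12, 16, 24, 18, 12, 6], [6, 9, 12, 18, 15, 10, 5], [4, 6, 8, 12, 10, 8, 4], [2, 3, 4, 6, 5, 4, 3]] i.val j.val

theorem invMatE7_mul : ∀ i k : Fin chevE7.rank,
    (invMatE7 * cartanMat chevE7) i k = ((((2 : ℕ)) : ℤ) • (1 : Matrix _ _ ℤ)) i k ∧
      (cartanMat chevE7 * invMatE7) i k = ((((2 : ℕ)) : ℤ) • (1 : Matrix _ _ ℤ)) i k := by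
  decide +kernel

theorem sylow_homocyclicE7 (hq : Fintype.card F = q) : SylowConcl chevE7 [2, 6, 8, 10, 12, 14, 18] F q := by
  intro r _ hrq hrW hrG P
  refine sylow_homocyclic (fun K _ => coreE7 K) [2, 6, 8, 10, 12, 14, 18] (by decide +kernel) (by norm_num)
    (g := 2) (by norm_num) invMatE7 (Matrix.ext fun i k => (invMatE7_mul i k).1)
    (Matrix.ext fun i k => (invMatE7_mul i k).2) (N₀ := 63) (fun K _ => ?_) (fun K _ _ => ?_)
    hq ⟨Nat.gcd 2 (Fintype.card F - 1), ?_, ?_⟩ r hrq hrW hrG P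
  · exact ((Nat.card_congr coxDataE7.equivWeyl.toEquiv).symm.trans
      CfsgLib.CoxeterFinite.e7_card).trans (by norm_num)
  · exact ⟨_, (coreE7 K).card_group_mul rfl (ncard_isPosRoot (by decide +kernel)) poincareE7
      (card_diagonalE7 K), card_diagonalE7 K⟩
  · exact (Nat.gcd_dvd_left _ _).trans (by norm_num)
  · rw [← hq]
    exact (coreE7 F).card_group_mul rfl (ncard_isPosRoot (by decide +kernel)) poincareE7
      (card_diagonalE7 F)

/-- Type E8: an integral inverse of the Cartan matrix up to a factor. -/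
def invMatE8 : Matrix (Fin chevE8.rank) (Fin chevE8.rank) ℤ := Matrix.of fun i j =>
  tableEnt [[4, 5, 7, 10, 8, 6, 4, 2], [5, 8, 10, 15, 12, 9, 6, 3], [7, 10, 14, 20, 16, 12, 8, 4], [10, 15, 20, 30, 24, 18, 12, 6], [8, 12, 16, 24, 20, 15, 10, 5], [6, 9, 12, 18, 15, 12, 8, 4], [4, 6, 8, 12, 10, 8, 6, 3], [2, 3, 4, 6, 5, 4, 3, 2]] i.val j.val

theorem invMatE8_mul : ∀ i k : Fin chevE8.rank,
    (invMatE8 * cartanMat chevE8) i k = ((((1 : ℕ)) : ℤ) • (1 : Matrix _ _ ℤ)) i k ∧
      (cartanMat chevE8 * invMatE8) i k = ((((1 : ℕ)) : ℤ) • (1 : Matrix _ _ ℤ)) i k := by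
  decide +kernel

theorem sylow_homocyclicE8 (hq : Fintype.card F = q) : SylowConcl chevE8 [2, 8, 12, 14, 18, 20, 24, 30] F q := by
  intro r _ hrq hrW hrG P
  refine sylow_homocyclic (fun K _ => coreE8 K) [2, 8, 12, 14, 18, 20, 24, 30] (by decide +kernel) (by norm_num)
    (g := 1) (by norm_num) invMatE8 (Matrix.ext fun i k => (invMatE8_mul i k).1)
    (Matrix.ext fun i k => (invMatE8_mul i k).2) (N₀ := 120) (fun K _ => ?_) (fun K _ _ => ?_)
    hq ⟨1, ?_, ?_⟩ r hrq hrW hrG P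
  · exact ((Nat.card_congr coxDataE8.equivWeyl.toEquiv).symm.trans
      CfsgLib.CoxeterFinite.e8_card).trans (by norm_num)
  · exact ⟨_, (coreE8 K).card_group_mul rfl (ncard_isPosRoot (by decide +kernel)) poincareE8
      (card_diagonalE8 K), card_diagonalE8 K⟩
  · exact one_dvd _
  · rw [← hq]
    exact (coreE8 F).card_group_mul rfl (ncard_isPosRoot (by decide +kernel)) poincareE8
      (card_diagonalE8 F)

end CfsgLib.CycTorus
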