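import Cfsg.Agent.Lib.CycTorus.Coords

/-!
Tuples of units of exponent `r ^ j` fixed by a group of monomial maps and twisted by a monomial map
form a homocyclic group, the orders being prime to `r`.
-/

set_option autoImplicit false

namespace CfsgLib.CycTorus

open Matrix CfsgLib.ChevStr

/-- A finite commutative group of exponent `r ^ j` in which elements of order `r` are
`r ^ (j - 1)`-th powers is homocyclic. -/
theorem exists_homocyclic {A : Type*} [CommGroup A] [Finite A] {r j : ℕ} (hr : r.Prime) (hj : 0 < j)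
    (hexp : ∀ x : A, x ^ r ^ j = 1) (hroot : ∀ x : A, x ^ r = 1 → ∃ y, y ^ r ^ (j - 1) = x) :
    ∃ e, Nonempty (A ≃* (Fin e → Multiplicative (ZMod (r ^ j)))) := by
  classical
  obtain ⟨ι, hι, n, hn, ⟨φ⟩⟩ := CommGroup.equiv_prod_multiplicative_zmod_of_finite A
  have hni : ∀ i, n i = r ^ j := by
    intro i
    let o : Multiplicative (ZMod (n i)) := Multiplicative.ofAdd 1
    have ho : orderOf o = n i := (orderOf_ofAdd_eq_addOrderOf _).trans (ZMod.addOrderOf_one _)
    have hdvd : n i ∣ r ^ j := by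
      rw [← ho, orderOf_dvd_iff_pow_eq_one]
      have := congrArg (fun f => φ f i) (hexp (φ.symm (Pi.mulSingle i o)))
      simpa using this
    obtain ⟨t, htj, ht⟩ := (Nat.dvd_prime_pow hr).1 hdvd
    rcases htj.lt_or_eq with hlt | rfl
    · exfalso
      have ht0 : t ≠ 0 := fun e => by have := hn i; rw [ht, e] at this; simp at this
      have hx1 : φ.symm (Pi.mulSingle i (o ^ r ^ (t - 1))) ^ r = 1 := by
        have e : o ^ r ^ t = 1 := by rw [← orderOf_dvd_iff_pow_eq_one, ho, ht]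
        rw [← map_pow, ← Pi.mulSingle_pow, ← pow_mul, ← pow_succ, Nat.sub_add_cancel (by omega), e,
          Pi.mulSingle_one, map_one]
      obtain ⟨y, hy⟩ := hroot _ hx1
      have h := congrArg (fun f => φ f i) hy
      simp only [map_pow, MulEquiv.apply_symm_apply, Pi.pow_apply, Pi.mulSingle_eq_same] at h
      have hy1 : φ y i ^ n i = 1 := by
        have hc := pow_card_eq_one' (G := Multiplicative (ZMod (n i))) (x := φ y i)
        rwa [show Nat.card (Multiplicative (ZMod (n i))) = n i from Nat.card_zmod (n i)] at hc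
      have h1 : φ y i ^ r ^ (j - 1) = 1 := by
        obtain ⟨c, hc⟩ := pow_dvd_pow r (show t ≤ j - 1 by omega)
        rw [hc, pow_mul, ← ht, hy1, one_pow]
      rw [h1] at h
      have h2 := Nat.le_of_dvd (pow_pos hr.pos _) (orderOf_dvd_iff_pow_eq_one.2 h.symm)
      rw [ho, ht] at h2
      exact absurd h2 (not_le.2 (Nat.pow_lt_pow_right hr.one_lt (by omega)))
    · exact ht
  refine ⟨Fintype.card ι, ⟨φ.trans ((MulEquiv.piCongrRight fun i =>
    AddEquiv.toMultiplicative (ZMod.ringEquivCongr (hni i)).toAddEquiv).trans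
    (MulEquiv.arrowCongr (Fintype.equivFin ι) (MulEquiv.refl _)))⟩⟩

variable {K : Type*} [Field K] [Fintype K] {l : ℕ}

/-- An `r`-th root of unity is an `r ^ (j - 1)`-th power of an `r ^ j`-th root. -/
theorem exists_root {r j : ℕ} (hr : r.Prime) (hj : 0 < j) (hdvd : r ^ j ∣ Fintype.card K - 1)
    {b : Kˣ} (hb : b ^ r = 1) : ∃ y : Kˣ, y ^ r ^ j = 1 ∧ y ^ r ^ (j - 1) = b := by
  obtain ⟨g, hg⟩ := IsCyclic.exists_generator (α := Kˣ)
  have hog : orderOf g = Fintype.card K - 1 := by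
    rw [orderOf_eq_card_of_forall_mem_zpowers hg, Nat.card_units, Nat.card_eq_fintype_card]
  obtain ⟨c, hc⟩ := hdvd
  obtain ⟨i, hi⟩ := (mem_powers_iff_mem_zpowers.2 (hg b))
  simp only at hi
  have h1 : r ^ j * c ∣ i * r := by
    rw [← hc, ← hog, orderOf_dvd_iff_pow_eq_one, pow_mul, hi, hb]
  have h2 : r ^ (j - 1) * c ∣ i := by
    have e : r ^ j = r * r ^ (j - 1) := by rw [← pow_succ', Nat.sub_add_cancel hj]
    rw [e, mul_assoc, mul_comm i] at h1
    exact Nat.dvd_of_mul_dvd_mul_left hr.pos h1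
  obtain ⟨s, rfl⟩ := h2
  refine ⟨g ^ (c * s), ?_, by rw [← pow_mul, ← hi]; congr 1; ring⟩
  rw [← pow_mul, show c * s * r ^ j = r ^ j * c * s by ring, ← hc, pow_mul, ← hog, pow_orderOf_eq_one,
    one_pow]

variable (K) (Ss : Set (Matrix (Fin l) (Fin l) ℤ)) (W : Matrix (Fin l) (Fin l) ℤ) (q m : ℕ)

/-- Tuples of exponent `m` fixed by the matrices of `Ss` and raised to the `q`-th power by `W`. -/
def twisted : Subgroup (Fin l → Kˣ) where
  carrier := {f | f ^ m = 1 ∧ (∀ U ∈ Ss, monMap Uᵀ f = f) ∧ monMap Wᵀ f = f ^ q}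
  one_mem' := ⟨one_pow _, fun U _ => map_one (monHom Uᵀ), by
    rw [one_pow]; exact map_one (monHom Wᵀ)⟩
  mul_mem' := fun {f g} hf hg => ⟨by rw [mul_pow, hf.1, hg.1, one_mul],
    fun U hU => (map_mul (monHom Uᵀ) f g).trans (congrArg₂ (· * ·) (hf.2.1 U hU) (hg.2.1 U hU)),
    (map_mul (monHom Wᵀ) f g).trans ((congrArg₂ (· * ·) hf.2.2 hg.2.2).trans (mul_pow f g q).symm)⟩
  inv_mem' := fun {f} hf => ⟨by rw [inv_pow, hf.1, inv_one],
    fun U hU => (map_inv (monHom Uᵀ) f).trans (congrArg _ (hf.2.1 U hU)),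
    (map_inv (monHom Wᵀ) f).trans ((congrArg _ hf.2.2).trans (inv_pow f q).symm)⟩

variable {K Ss W q m}

omit [Fintype K] in
theorem monMap_prod {ι : Type*} (M : Matrix (Fin l) (Fin l) ℤ) (s : Finset ι) (f : ι → Fin l → Kˣ) :
    monMap M (∏ i ∈ s, f i) = ∏ i ∈ s, monMap M (f i) := map_prod (monHom M) f s

omit [Fintype K] in
theorem monMap_transpose_mul (A B : Matrix (Fin l) (Fin l) ℤ) (f : Fin l → Kˣ) :
    monMap Bᵀ (monMap Aᵀ f) = monMap (A * B)ᵀ f := by
  rw [monMap_mul, Matrix.transpose_mul]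

omit [Fintype K] in
theorem monMap_transpose_one (f : Fin l → Kˣ) : monMap (1 : Matrix (Fin l) (Fin l) ℤ)ᵀ f = f := by
  rw [Matrix.transpose_one]; exact monMap_one f

/-- The projection argument: elements of order `r` of the twisted group are powers. -/
theorem twisted_root {r j : ℕ} (hr : r.Prime) (hj : 0 < j) (hdvd : r ^ j ∣ Fintype.card K - 1)
    {G : Type*} [Group G] [Fintype G] (ρ : G → Matrix (Fin l) (Fin l) ℤ)
    (hρ : ∀ u v, ρ (u * v) = ρ u * ρ v) (hrG : ¬ r ∣ Fintype.card G) {o : ℕ} (hro : ¬ r ∣ o)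
    (ho : W ^ o = 1) (hqo : q ^ o ≡ 1 [MOD r ^ j])
    (hnorm : ∀ u, ∀ i : ℕ, ∃ u', W ^ i * ρ u = ρ u' * W ^ i)
    (x : twisted K (Set.range ρ) W q (r ^ j)) (hx : x ^ r = 1) :
    ∃ y : twisted K (Set.range ρ) W q (r ^ j), y ^ r ^ (j - 1) = x := by
  obtain ⟨x, hxm, hxS, hxW⟩ := x
  have hxr : x ^ r = 1 := congrArg Subtype.val hx
  choose y hy1 hy2 using fun k => exists_root hr hj hdvd (b := x k) (congrFun hxr k)
  have hym : y ^ r ^ j = 1 := funext hy1
  have hyx : y ^ r ^ (j - 1) = x := funext hy2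
  have ho0 : o ≠ 0 := fun e => hro (e ▸ dvd_zero r)
  set z := ∏ u : G, monMap (ρ u)ᵀ y with hz
  have hzm : z ^ r ^ j = 1 := by
    rw [hz, ← Finset.prod_pow]
    refine Finset.prod_eq_one fun u _ => ?_
    rw [← monMap_pow, hym]
    exact map_one (monHom (ρ u)ᵀ)
  have hzS : ∀ u, monMap (ρ u)ᵀ z = z := by
    intro u
    rw [hz, monMap_prod]
    refine Fintype.prod_equiv (Equiv.mulRight u) _ _ fun v => ?_
    rw [monMap_transpose_mul, ← hρ]
    rfl
  have hzx : z ^ r ^ (j - 1) = x ^ Fintype.card G := by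
    rw [hz, ← Finset.prod_pow, ← Finset.card_univ, ← Finset.prod_const]
    exact Finset.prod_congr rfl fun u _ => by rw [← monMap_pow, hyx, hxS _ ⟨u, rfl⟩]
  set T : ℕ → Fin l → Kˣ := fun i => monMap (W ^ i)ᵀ z with hT
  have hTm : ∀ i, T i ^ r ^ j = 1 := fun i => by
    simp only [hT]; rw [← monMap_pow, hzm]; exact map_one (monHom (W ^ i)ᵀ)
  have hmod : ∀ (i a b : ℕ), a ≡ b [MOD r ^ j] → T i ^ a = T i ^ b := fun i a b h => by
    exact (pow_eq_pow_iff_modEq (x := T i)).2 (h.of_dvd (orderOf_dvd_iff_pow_eq_one.2 (hTm i)))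
  set z' := ∏ i ∈ Finset.range o, T i ^ q ^ ((o - 1) * i) with hz'
  have hWx : ∀ i, monMap (W ^ i)ᵀ x = x ^ q ^ i := by
    intro i
    induction i with
    | zero => rw [pow_zero, pow_zero, pow_one, monMap_transpose_one]
    | succ i ih => rw [pow_succ, ← monMap_transpose_mul, ih, monMap_pow, hxW, ← pow_mul, pow_succ' q]
  have hz'x : z' ^ r ^ (j - 1) = x ^ (Fintype.card G * o) := by
    have hterm : ∀ i ∈ Finset.range o, (T i ^ q ^ ((o - 1) * i)) ^ r ^ (j - 1) = x ^ Fintype.card G := by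
      intro i _
      simp only [hT]
      rw [← pow_mul, mul_comm, pow_mul, ← monMap_pow, hzx, monMap_pow, hWx, ← pow_mul, ← pow_mul]
      have hmo : q ^ i * q ^ ((o - 1) * i) ≡ 1 [MOD r ^ j] := by
        rw [← pow_add, show i + (o - 1) * i = o * i by
          conv_lhs => arg 1; rw [← one_mul i]
          rw [← add_mul]; congr 1; omega, pow_mul]
        simpa using hqo.pow i
      rw [show q ^ i * (Fintype.card G * q ^ ((o - 1) * i)) =
        Fintype.card G * (q ^ i * q ^ ((o - 1) * i)) by ring]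
      exact (pow_eq_pow_iff_modEq (x := x)).2
        (by simpa using ((hmo.mul_left (Fintype.card G)).of_dvd (orderOf_dvd_iff_pow_eq_one.2 hxm)))
    rw [hz', ← Finset.prod_pow, Finset.prod_congr rfl hterm, Finset.prod_const, Finset.card_range, ← pow_mul]
  have hz'm : z' ^ r ^ j = 1 := by
    rw [hz', ← Finset.prod_pow]
    exact Finset.prod_eq_one fun i _ => by rw [← pow_mul, mul_comm, pow_mul, hTm, one_pow]
  have hz'S : ∀ u, monMap (ρ u)ᵀ z' = z' := by
    intro u
    rw [hz', monMap_prod]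
    refine Finset.prod_congr rfl fun i _ => ?_
    simp only [hT]
    obtain ⟨u', hu'⟩ := hnorm u i
    rw [monMap_pow, monMap_transpose_mul, hu', ← monMap_transpose_mul, hzS]
  have hz'W : monMap Wᵀ z' = z' ^ q := by
    set S : ℕ → Fin l → Kˣ := fun i => T i ^ (q ^ ((o - 1) * i) * q) with hS
    have hSo : S o = S 0 := by
      have hT0 : T o = T 0 := by simp only [hT, ho, pow_zero]
      simp only [hS, hT0, mul_zero, pow_zero, one_mul]
      refine hmod 0 _ _ ?_
      rw [mul_comm (o - 1), pow_mul]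
      simpa using (hqo.pow (o - 1)).mul_right q
    have e1 : monMap Wᵀ z' = ∏ i ∈ Finset.range o, S (i + 1) := by
      rw [hz', monMap_prod]
      refine Finset.prod_congr rfl fun i _ => ?_
      rw [monMap_pow]
      simp only [hT]
      rw [monMap_transpose_mul, ← pow_succ]
      refine hmod (i + 1) _ _ ?_
      rw [← pow_succ, show (o - 1) * (i + 1) + 1 = (o - 1) * i + o by rw [mul_add, mul_one]; omega, pow_add]
      simpa using (hqo.mul_left (q ^ ((o - 1) * i))).symm
    rw [e1, hz', ← Finset.prod_pow]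
    simp only [← pow_mul]
    have h1 := Finset.prod_range_succ S o
    have h2 := Finset.prod_range_succ' S o
    rw [h1, hSo] at h2
    exact (mul_right_cancel h2).symm
  obtain ⟨a, ha⟩ : ∃ a, Fintype.card G * o * a ≡ 1 [MOD r] := by
    obtain ⟨a, -, ha⟩ := Nat.exists_mul_mod_eq_one_of_coprime
      (k := r) (n := Fintype.card G * o)
      (Nat.coprime_comm.1 ((hr.coprime_iff_not_dvd).2 (by rw [hr.dvd_mul, not_or]; exact ⟨hrG, hro⟩)))
      hr.one_lt
    exact ⟨a, by rw [Nat.ModEq, ha, Nat.mod_eq_of_lt hr.one_lt]⟩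
  refine ⟨⟨z', hz'm, by rintro _ ⟨u, rfl⟩; exact hz'S u, hz'W⟩ ^ a, Subtype.ext ?_⟩
  show (z' ^ a) ^ r ^ (j - 1) = x
  rw [← pow_mul, mul_comm, pow_mul, hz'x, ← pow_mul]
  conv_rhs => rw [← pow_one x]
  exact (pow_eq_pow_iff_modEq (x := x)).2 (ha.of_dvd (orderOf_dvd_iff_pow_eq_one.2 hxr))

end CfsgLib.CycTorus
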